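import Groth.Agent.H27.Tate.SepPlace
import Groth.Agent.H55.FFIndep

/-!
The coefficient field of an expansion at a place is a quotient of the residue field, hence
finite dimensional over the constant field.
-/

set_option autoImplicit false

namespace Groth.Agent.H27.ExpFD

open FunFld WithZero HahnSeries Groth.Agent.H55 Groth.Agent.H27.Tate

universe u v w

variable {k : Type u} {K : Type v} {F : Type w} [Field k] [Field K] [Field F] [Algebra k K]
  [Algebra k F]

theorem mem_Alev_of_int {P : Place k K} {φ : K →ₐ[k] LaurentSeries F}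
    (hφ : LocRes.IsExpansionAt P.1 φ) {f : K} (hf : P.1 f ≤ 1) : φ f ∈ Alev F 0 := by
  rw [mem_Alev_iff_val, hφ.1, neg_zero, exp_zero]
  exact hf

theorem coeff_zero_of_lt {P : Place k K} {φ : K →ₐ[k] LaurentSeries F}
    (hφ : LocRes.IsExpansionAt P.1 φ) {f : K} (hf : P.1 f < 1) : (φ f).coeff 0 = 0 := by
  have h1 : φ f ∈ Alev F 1 := by
    rw [mem_Alev_iff_val, hφ.1]
    exact (zm0_lt_one_iff _).1 hf
  exact h1 0 (by norm_num)

/-- The constant-term ring homomorphism `O_P → F`. -/
noncomputable def cHom (P : Place k K) (φ : K →ₐ[k] LaurentSeries F)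
    (hφ : LocRes.IsExpansionAt P.1 φ) : P.O →+* F where
  toFun f := (φ (f : K)).coeff 0
  map_one' := by simp
  map_mul' a b := by
    have ha := mem_Alev_of_int hφ ((Valuation.mem_valuationSubring_iff P.1 _).1 a.2)
    have hb := mem_Alev_of_int hφ ((Valuation.mem_valuationSubring_iff P.1 _).1 b.2)
    show (φ ((a * b : P.O) : K)).coeff 0 = _
    rw [MulMemClass.coe_mul, map_mul, Groth.Agent.H27.SepPlace.coeff_zero_mul ha hb]
  map_zero' := by simp
  map_add' a b := by simp

theorem cHom_apply (P : Place k K) (φ : K →ₐ[k] LaurentSeries F)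
    (hφ : LocRes.IsExpansionAt P.1 φ) (f : P.O) : cHom P φ hφ f = (φ (f : K)).coeff 0 := rfl

/-- The induced homomorphism from the residue field. -/
noncomputable def resHomF (P : Place k K) (φ : K →ₐ[k] LaurentSeries F)
    (hφ : LocRes.IsExpansionAt P.1 φ) : IsLocalRing.ResidueField P.O →+* F :=
  Ideal.Quotient.lift (IsLocalRing.maximalIdeal P.O) (cHom P φ hφ) (fun a ha => by
    rw [mem_maximalIdeal_iff] at ha
    exact coeff_zero_of_lt hφ ha)

theorem resHomF_residue (P : Place k K) (φ : K →ₐ[k] LaurentSeries F)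
    (hφ : LocRes.IsExpansionAt P.1 φ) (f : P.O) :
    resHomF P φ hφ (IsLocalRing.residue P.O f) = (φ (f : K)).coeff 0 := rfl

theorem resHomF_surjective (P : Place k K) (φ : K →ₐ[k] LaurentSeries F)
    (hφ : LocRes.IsExpansionAt P.1 φ) : Function.Surjective (resHomF P φ hφ) := by
  intro a
  obtain ⟨f, hf, hfa⟩ := hφ.2.1 a
  exact ⟨IsLocalRing.residue P.O ⟨f, (Valuation.mem_valuationSubring_iff P.1 _).2 hf⟩, by
    rw [resHomF_residue]; exact hfa⟩

theorem resHomF_algebraMap (P : Place k K) (φ : K →ₐ[k] LaurentSeries F)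
    (hφ : LocRes.IsExpansionAt P.1 φ) (c : k) :
    resHomF P φ hφ (algebraMap k (IsLocalRing.ResidueField P.O) c) = algebraMap k F c := by
  have h1 : algebraMap k (IsLocalRing.ResidueField P.O) c =
      IsLocalRing.residue P.O (algebraMap k P.O c) := rfl
  rw [h1, resHomF_residue]
  have h2 : ((algebraMap k P.O c : P.O) : K) = algebraMap k K c := rfl
  rw [h2, LocRes.map_algebraMap, HahnSeries.C_apply, coeff_single_same]

/-- The residue-field map as a `k`-linear map. -/
noncomputable def resLin (P : Place k K) (φ : K →ₐ[k] LaurentSeries F)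
    (hφ : LocRes.IsExpansionAt P.1 φ) : IsLocalRing.ResidueField P.O →ₗ[k] F where
  toFun := resHomF P φ hφ
  map_add' := map_add _
  map_smul' c x := by
    show resHomF P φ hφ (c • x) = c • resHomF P φ hφ x
    rw [Algebra.smul_def c x, map_mul, resHomF_algebraMap, Algebra.smul_def]

/-- The coefficient field of an expansion at a place of a function field is finite over the
constant field. -/
theorem finiteDimensional (hK : IsFunctionField k K) (P : Place k K)
    (φ : K →ₐ[k] LaurentSeries F) (hφ : LocRes.IsExpansionAt P.1 φ) : FiniteDimensional k F := by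
  haveI := residue_finiteDimensional hK P
  exact Module.Finite.of_surjective (resLin P φ hφ) (resHomF_surjective P φ hφ)

/-- `[F : k] = deg P`. -/
theorem finrank_eq_deg (hK : IsFunctionField k K) (P : Place k K)
    (φ : K →ₐ[k] LaurentSeries F) (hφ : LocRes.IsExpansionAt P.1 φ) :
    Module.finrank k F = P.deg := by
  have hinj : Function.Injective (resLin P φ hφ) := (resHomF P φ hφ).injective
  exact (LinearEquiv.ofBijective (resLin P φ hφ)
    ⟨hinj, resHomF_surjective P φ hφ⟩).finrank_eq.symm

end Groth.Agent.H27.ExpFD
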