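import Groth.Agent.H27.Tate.FPTrace
import Mathlib.LinearAlgebra.Projection
import Mathlib.LinearAlgebra.Basis.VectorSpace

/-!
# Tate's abstract residue: commutators `[π f, g]` for a projector `π` onto a near-stable subspace
-/

set_option autoImplicit false

namespace Groth.Agent.H27.Tate

open LinearMap

variable {k : Type*} [Field k] {V : Type*} [AddCommGroup V] [Module k V]

/-- `f A ⊆ A + (finite-dimensional)`. -/
def NearStable (A : Submodule k V) (f : Module.End k V) : Prop :=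
  ∃ U : Submodule k V, FiniteDimensional k U ∧ ∀ a ∈ A, f a ∈ A ⊔ U

/-- `θ V ⊆ A + (finite-dimensional)` and `θ A ⊆ (finite-dimensional)`. -/
def InE (A : Submodule k V) (θ : Module.End k V) : Prop :=
  (∃ U : Submodule k V, FiniteDimensional k U ∧ ∀ v, θ v ∈ A ⊔ U) ∧
    ∃ W : Submodule k V, FiniteDimensional k W ∧ ∀ a ∈ A, θ a ∈ W

/-- `π` is a projector onto `A`. -/
structure IsProjOnto (A : Submodule k V) (π : Module.End k V) : Prop where
  mem : ∀ v, π v ∈ A
  id : ∀ a ∈ A, π a = a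

variable {A : Submodule k V}

theorem NearStable.mul {f g : Module.End k V} (hf : NearStable A f) (hg : NearStable A g) :
    NearStable A (f * g) := by
  obtain ⟨Uf, hUf, hf⟩ := hf
  obtain ⟨Ug, hUg, hg⟩ := hg
  refine ⟨Uf ⊔ Ug.map f, inferInstance, ?_⟩
  intro a ha
  obtain ⟨a₁, ha₁, u₁, hu₁, h1⟩ := Submodule.mem_sup.1 (hg a ha)
  obtain ⟨a₂, ha₂, u₂, hu₂, h2⟩ := Submodule.mem_sup.1 (hf a₁ ha₁)
  rw [Module.End.mul_apply, ← h1, map_add, ← h2, add_assoc]
  exact Submodule.add_mem_sup ha₂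
    (Submodule.add_mem_sup hu₂ (Submodule.mem_map_of_mem hu₁))

theorem InE.range_mul {θ₁ θ₂ : Module.End k V} (h₁ : InE A θ₁) (h₂ : InE A θ₂) :
    FiniteDimensional k (range (θ₁ * θ₂)) := by
  obtain ⟨⟨U₂, hU₂, h2⟩, -⟩ := h₂
  obtain ⟨-, ⟨W₁, hW₁, h1⟩⟩ := h₁
  have hle : range (θ₁ * θ₂) ≤ W₁ ⊔ U₂.map θ₁ := by
    rintro _ ⟨v, rfl⟩
    obtain ⟨a, ha, u, hu, h⟩ := Submodule.mem_sup.1 (h2 v)
    rw [Module.End.mul_apply, ← h, map_add]
    exact Submodule.add_mem_sup (h1 a ha) (Submodule.mem_map_of_mem hu)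
  exact Submodule.finiteDimensional_of_le hle

theorem InE.isFP {θ : Module.End k V} (h : InE A θ) : IsFP θ :=
  isFP_of_finiteDimensional_range_sq θ (h.range_mul h)

theorem InE.add {θ₁ θ₂ : Module.End k V} (h₁ : InE A θ₁) (h₂ : InE A θ₂) : InE A (θ₁ + θ₂) := by
  obtain ⟨⟨U₁, hU₁, a1⟩, ⟨W₁, hW₁, b1⟩⟩ := h₁
  obtain ⟨⟨U₂, hU₂, a2⟩, ⟨W₂, hW₂, b2⟩⟩ := h₂
  refine ⟨⟨U₁ ⊔ U₂, inferInstance, fun v => ?_⟩, ⟨W₁ ⊔ W₂, inferInstance, fun a ha => ?_⟩⟩
  · rw [LinearMap.add_apply]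
    have e1 : A ⊔ U₁ ≤ A ⊔ (U₁ ⊔ U₂) := sup_le_sup_left le_sup_left A
    have e2 : A ⊔ U₂ ≤ A ⊔ (U₁ ⊔ U₂) := sup_le_sup_left le_sup_right A
    exact add_mem (e1 (a1 v)) (e2 (a2 v))
  · rw [LinearMap.add_apply]
    exact Submodule.add_mem_sup (b1 a ha) (b2 a ha)

theorem InE.neg {θ : Module.End k V} (h : InE A θ) : InE A (-θ) := by
  obtain ⟨⟨U₁, hU₁, a1⟩, ⟨W₁, hW₁, b1⟩⟩ := h
  refine ⟨⟨U₁, hU₁, fun v => ?_⟩, ⟨W₁, hW₁, fun a ha => ?_⟩⟩
  · rw [LinearMap.neg_apply]; exact neg_mem (a1 v)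
  · rw [LinearMap.neg_apply]; exact neg_mem (b1 a ha)

theorem InE.sub {θ₁ θ₂ : Module.End k V} (h₁ : InE A θ₁) (h₂ : InE A θ₂) : InE A (θ₁ - θ₂) := by
  rw [sub_eq_add_neg]; exact h₁.add h₂.neg

theorem inE_of_finiteRank (A : Submodule k V) (θ : Module.End k V)
    (h : FiniteDimensional k (range θ)) : InE A θ :=
  ⟨⟨range θ, h, fun v => Submodule.mem_sup_right ⟨v, rfl⟩⟩, ⟨range θ, h, fun a _ => ⟨a, rfl⟩⟩⟩

theorem ftr_add_of_inE {θ₁ θ₂ : Module.End k V} (h₁ : InE A θ₁) (h₂ : InE A θ₂) :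
    ftr (θ₁ + θ₂) = ftr θ₁ + ftr θ₂ :=
  ftr_add _ _ (h₁.range_mul h₁) (h₁.range_mul h₂) (h₂.range_mul h₁) (h₂.range_mul h₂)

theorem ftr_sub_of_inE {θ₁ θ₂ : Module.End k V} (h₁ : InE A θ₁) (h₂ : InE A θ₂) :
    ftr (θ₁ - θ₂) = ftr θ₁ - ftr θ₂ := by
  rw [sub_eq_add_neg, ftr_add_of_inE h₁ h₂.neg, ftr_neg _ h₂.isFP, sub_eq_add_neg]

theorem InE.mul_right {η g : Module.End k V} (h : InE A η) (hg : NearStable A g) :
    InE A (η * g) := by
  obtain ⟨⟨U, hU, a1⟩, ⟨W, hW, b1⟩⟩ := h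
  obtain ⟨Ug, hUg, hg⟩ := hg
  refine ⟨⟨U, hU, fun v => a1 (g v)⟩, ⟨W ⊔ Ug.map η, inferInstance, fun a ha => ?_⟩⟩
  obtain ⟨a₁, ha₁, u₁, hu₁, h1⟩ := Submodule.mem_sup.1 (hg a ha)
  rw [Module.End.mul_apply, ← h1, map_add]
  exact Submodule.add_mem_sup (b1 a₁ ha₁) (Submodule.mem_map_of_mem hu₁)

theorem InE.mul_left {η g : Module.End k V} (h : InE A η) (hg : NearStable A g) :
    InE A (g * η) := by
  obtain ⟨⟨U, hU, a1⟩, ⟨W, hW, b1⟩⟩ := h
  obtain ⟨Ug, hUg, hg⟩ := hg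
  refine ⟨⟨Ug ⊔ U.map g, inferInstance, fun v => ?_⟩, ⟨W.map g, inferInstance, fun a ha => ?_⟩⟩
  · obtain ⟨a₁, ha₁, u₁, hu₁, h1⟩ := Submodule.mem_sup.1 (a1 v)
    obtain ⟨a₂, ha₂, u₂, hu₂, h2⟩ := Submodule.mem_sup.1 (hg a₁ ha₁)
    rw [Module.End.mul_apply, ← h1, map_add, ← h2, add_assoc]
    exact Submodule.add_mem_sup ha₂ (Submodule.add_mem_sup hu₂ (Submodule.mem_map_of_mem hu₁))
  · rw [Module.End.mul_apply]
    exact Submodule.mem_map_of_mem (b1 a ha)

/-- The commutator `[π f, g]`. -/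
def comm (π f g : Module.End k V) : Module.End k V := π * f * g - g * π * f

theorem comm_apply (π f g : Module.End k V) (v : V) :
    comm π f g v = π (f (g v)) - g (π (f v)) := rfl

theorem one_sub_proj_mem {π : Module.End k V} (hπ : IsProjOnto A π) (U : Submodule k V) {x : V}
    (hx : x ∈ A ⊔ U) : x - π x ∈ U.map (1 - π) := by
  obtain ⟨a, ha, u, hu, rfl⟩ := Submodule.mem_sup.1 hx
  refine ⟨u, hu, ?_⟩
  rw [LinearMap.sub_apply, Module.End.one_apply, map_add, hπ.id a ha]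
  abel

theorem inE_comm {π f g : Module.End k V} (hπ : IsProjOnto A π) (hf : NearStable A f)
    (hg : NearStable A g) (hc : Commute f g) : InE A (comm π f g) := by
  obtain ⟨Ufg, hUfg, hfg⟩ := hf.mul hg
  obtain ⟨Uf, hUf, hf'⟩ := hf
  obtain ⟨Ug, hUg, hg'⟩ := hg
  refine ⟨⟨Ug, hUg, fun v => ?_⟩, ⟨Ufg.map (1 - π) ⊔ (Uf.map (1 - π)).map g, inferInstance,
    fun a ha => ?_⟩⟩
  · rw [comm_apply]
    exact sub_mem (Submodule.mem_sup_left (hπ.mem _)) (hg' _ (hπ.mem _))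
  · have e : comm π f g a = -(f (g a) - π (f (g a))) + g (f a - π (f a)) := by
      have hc' : f (g a) = g (f a) := by
        rw [← Module.End.mul_apply, ← Module.End.mul_apply, hc.eq]
      rw [comm_apply, map_sub, hc']
      abel
    rw [e]
    refine Submodule.add_mem_sup (neg_mem ?_) (Submodule.mem_map_of_mem ?_)
    · have := hfg a ha
      rw [Module.End.mul_apply] at this
      exact one_sub_proj_mem hπ Ufg this
    · exact one_sub_proj_mem hπ Uf (hf' a ha)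

/-- The trace of `[π f, g]` does not depend on the projector `π` onto `A`. -/
theorem ftr_comm_indep {π π' f g : Module.End k V} (hπ : IsProjOnto A π) (hπ' : IsProjOnto A π')
    (hf : NearStable A f) (hg : NearStable A g) (hc : Commute f g) :
    ftr (comm π f g) = ftr (comm π' f g) := by
  have hη : InE A ((π - π') * f) := by
    obtain ⟨Uf, hUf, hf'⟩ := hf
    refine ⟨⟨⊥, inferInstance, fun v => ?_⟩, ⟨Uf.map (π - π'), inferInstance, fun a ha => ?_⟩⟩
    · rw [Module.End.mul_apply, LinearMap.sub_apply]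
      exact Submodule.mem_sup_left (sub_mem (hπ.mem _) (hπ'.mem _))
    · obtain ⟨a₁, ha₁, u₁, hu₁, h1⟩ := Submodule.mem_sup.1 (hf' a ha)
      refine ⟨u₁, hu₁, ?_⟩
      rw [Module.End.mul_apply, ← h1, map_add]
      simp only [LinearMap.sub_apply]
      rw [hπ.id a₁ ha₁, hπ'.id a₁ ha₁]
      abel
  have h1 : InE A ((π - π') * f * g) := hη.mul_right hg
  have h2 : InE A (g * ((π - π') * f)) := hη.mul_left hg
  have e : comm π f g = comm π' f g + ((π - π') * f * g - g * ((π - π') * f)) := by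
    unfold comm
    simp only [sub_mul, mul_sub, mul_assoc]
    abel
  have e2 : ftr ((π - π') * f * g) = ftr (g * ((π - π') * f)) :=
    ftr_comm ((π - π') * f) g h1.isFP
  rw [e, ftr_add_of_inE (inE_comm hπ' hf hg hc) (h1.sub h2), ftr_sub_of_inE h1 h2, e2, sub_self,
    add_zero]

/-- **Tate's global vanishing**: if `B` is stable under `f` and `g`, `A ⊓ B` is finite-dimensional
and `A ⊔ B` has finite codimension, then the trace of `[π f, g]` vanishes. -/
theorem ftr_comm_eq_zero {π f g : Module.End k V} (hπ : IsProjOnto A π) (hf : NearStable A f)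
    (hg : NearStable A g) (hc : Commute f g) (B : Submodule k V) (hBf : ∀ b ∈ B, f b ∈ B)
    (hBg : ∀ b ∈ B, g b ∈ B) (hfd : FiniteDimensional k (A ⊓ B : Submodule k V))
    (hcofd : FiniteDimensional k (V ⧸ (A ⊔ B))) : ftr (comm π f g) = 0 := by
  -- complements
  obtain ⟨Q, hQ⟩ := Submodule.exists_isCompl (A ⊓ B)
  obtain ⟨C, hC⟩ := Submodule.exists_isCompl (A ⊔ B)
  have : FiniteDimensional k C :=
    Module.Finite.equiv (Submodule.quotientEquivOfIsCompl (A ⊔ B) C hC)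
  set B' : Submodule k V := Q ⊓ B with hB'
  have hB'B : B' ≤ B := inf_le_right
  have hAB' : A ⊓ B' = ⊥ := by
    rw [hB', ← inf_assoc, inf_comm A Q, inf_assoc]
    exact (inf_comm _ _).trans hQ.inf_eq_bot
  have hDB' : ∀ b ∈ B, ∃ d ∈ A ⊓ B, ∃ b' ∈ B', d + b' = b := by
    intro b hb
    have : b ∈ (A ⊓ B) ⊔ Q := by rw [hQ.sup_eq_top]; trivial
    obtain ⟨d, hd, q, hq, rfl⟩ := Submodule.mem_sup.1 this
    refine ⟨d, hd, q, ⟨hq, ?_⟩, rfl⟩
    have := sub_mem hb hd.2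
    rwa [add_sub_cancel_left] at this
  have hAN : IsCompl A (B' ⊔ C) := by
    refine IsCompl.of_eq ?_ ?_
    · rw [eq_bot_iff]
      rintro x ⟨hxA, hxN⟩
      obtain ⟨b', hb', c, hc', rfl⟩ := Submodule.mem_sup.1 hxN
      have hcM : c ∈ A ⊔ B := by
        have : c = (b' + c) - b' := by abel
        rw [this]
        exact sub_mem (Submodule.mem_sup_left hxA) (Submodule.mem_sup_right (hB'B hb'))
      have hc0 : c = 0 := by
        have : c ∈ (A ⊔ B) ⊓ C := ⟨hcM, hc'⟩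
        rwa [hC.inf_eq_bot, Submodule.mem_bot] at this
      subst hc0
      rw [add_zero] at hxA ⊢
      have : b' ∈ A ⊓ B' := ⟨hxA, hb'⟩
      rwa [hAB'] at this
    · rw [eq_top_iff]
      intro x _
      have : x ∈ (A ⊔ B) ⊔ C := by rw [hC.sup_eq_top]; trivial
      obtain ⟨m, hm, c, hc', rfl⟩ := Submodule.mem_sup.1 this
      obtain ⟨a, ha, b, hb, rfl⟩ := Submodule.mem_sup.1 hm
      obtain ⟨d, hd, b', hb', rfl⟩ := hDB' b hb
      have : a + (d + b') + c = (a + d) + (b' + c) := by abel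
      rw [this]
      exact Submodule.add_mem_sup (add_mem ha hd.1) (Submodule.add_mem_sup hb' hc')
  -- projectors
  set π₀ : Module.End k V := A.projection (B' ⊔ C) hAN with hπ₀
  set πC : Module.End k V := C.projection (A ⊔ B) hC.symm with hπC
  set p : Module.End k V := (A ⊓ B).projection Q hQ with hp
  have hπ₀A : IsProjOnto A π₀ :=
    ⟨fun v => Submodule.projection_apply_mem hAN v,
      fun a ha => Submodule.projection_apply_of_mem_left hAN ha⟩
  have hπ₀N : ∀ x ∈ B' ⊔ C, π₀ x = 0 :=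
    fun x hx => Submodule.projection_apply_of_mem_right hAN hx
  have hπCm : ∀ v, πC v ∈ C := fun v => Submodule.projection_apply_mem hC.symm v
  have hπCC : ∀ c ∈ C, πC c = c := fun c hc' => Submodule.projection_apply_of_mem_left hC.symm hc'
  have hπCM : ∀ m ∈ A ⊔ B, πC m = 0 :=
    fun m hm => Submodule.projection_apply_of_mem_right hC.symm hm
  have hpm : ∀ v, p v ∈ A ⊓ B := fun v => Submodule.projection_apply_mem hQ v
  have hpD : ∀ d ∈ A ⊓ B, p d = d := fun d hd => Submodule.projection_apply_of_mem_left hQ hd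
  set ρ : Module.End k V := 1 - π₀ - πC + p * π₀ with hρ
  have hρB : ∀ v, ρ v ∈ B := by
    intro v
    have : v ∈ A ⊔ (B' ⊔ C) := by rw [hAN.sup_eq_top]; trivial
    obtain ⟨a, ha, n, hn, rfl⟩ := Submodule.mem_sup.1 this
    obtain ⟨b', hb', c, hc', rfl⟩ := Submodule.mem_sup.1 hn
    have e1 : π₀ (a + (b' + c)) = a := by
      rw [map_add, hπ₀A.id a ha, hπ₀N _ hn, add_zero]
    have e2 : πC (a + (b' + c)) = c := by
      rw [map_add, map_add, hπCM a (Submodule.mem_sup_left ha),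
        hπCM b' (Submodule.mem_sup_right (hB'B hb')), hπCC c hc', zero_add, zero_add]
    have e3 : ρ (a + (b' + c)) = b' + p a := by
      rw [hρ, LinearMap.add_apply, LinearMap.sub_apply, LinearMap.sub_apply, Module.End.one_apply,
        Module.End.mul_apply, e1, e2]
      abel
    rw [e3]
    exact add_mem (hB'B hb') (hpm a).2
  have hρid : ∀ b ∈ B, ρ b = b := by
    intro b hb
    obtain ⟨d, hd, b', hb', rfl⟩ := hDB' b hb
    have e1 : π₀ (d + b') = d := by
      rw [map_add, hπ₀A.id d hd.1, hπ₀N _ (Submodule.mem_sup_left hb'), add_zero]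
    have e2 : πC (d + b') = 0 := by
      rw [map_add, hπCM d (Submodule.mem_sup_left hd.1),
        hπCM b' (Submodule.mem_sup_right (hB'B hb')), add_zero]
    rw [hρ, LinearMap.add_apply, LinearMap.sub_apply, LinearMap.sub_apply, Module.End.one_apply,
      Module.End.mul_apply, e1, e2, hpD d hd]
    abel
  -- `τ = [ρ f, g]` squares to zero
  have hτ : comm ρ f g * comm ρ f g = 0 := by
    have hτB : ∀ v, comm ρ f g v ∈ B := fun v => by
      rw [comm_apply]
      exact sub_mem (hρB _) (hBg _ (hρB _))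
    have hτ0 : ∀ b ∈ B, comm ρ f g b = 0 := fun b hb => by
      rw [comm_apply, hρid _ (hBf _ (hBg b hb)), hρid _ (hBf b hb), ← Module.End.mul_apply,
        ← Module.End.mul_apply g f, hc.eq, sub_self]
    ext v
    rw [Module.End.mul_apply, hτ0 _ (hτB v), LinearMap.zero_apply]
  -- `ε = π₀ + ρ - 1` has finite rank
  set ε : Module.End k V := p * π₀ - πC with hε
  have hεfr : FiniteDimensional k (range ε) := by
    have hle : range ε ≤ (A ⊓ B) ⊔ C := by
      rintro _ ⟨v, rfl⟩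
      rw [hε, LinearMap.sub_apply, Module.End.mul_apply]
      exact Submodule.sub_mem_sup (hpm _) (hπCm v)
    exact Submodule.finiteDimensional_of_le hle
  have := hεfr
  have hζ : FiniteDimensional k (range (ε * f)) := finiteDimensional_range_mul_left ε f
  have h1 : InE A (ε * f * g) := by
    refine inE_of_finiteRank A _ ?_
    have := hζ
    exact finiteDimensional_range_mul_left (ε * f) g
  have h2 : InE A (g * (ε * f)) := by
    refine inE_of_finiteRank A _ ?_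
    have := hζ
    exact finiteDimensional_range_mul_right g (ε * f)
  have e : comm π₀ f g = (ε * f * g - g * (ε * f)) - comm ρ f g := by
    have hπε : π₀ = 1 - ρ + ε := by rw [hρ, hε]; abel
    unfold comm
    rw [hπε]
    simp only [sub_mul, add_mul, mul_sub, mul_add, one_mul, mul_one, mul_assoc]
    rw [hc.eq]
    abel
  have h3 : InE A (comm ρ f g) := by
    have : comm ρ f g = (ε * f * g - g * (ε * f)) - comm π₀ f g := by rw [e]; abel
    rw [this]
    exact (h1.sub h2).sub (inE_comm hπ₀A hf hg hc)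
  have e2 : ftr (ε * f * g) = ftr (g * (ε * f)) := ftr_comm (ε * f) g h1.isFP
  rw [ftr_comm_indep hπ hπ₀A hf hg hc, e, ftr_sub_of_inE (h1.sub h2) h3, ftr_sub_of_inE h1 h2, e2,
    ftr_eq_zero_of_mul_self _ hτ, sub_self, sub_zero]

end Groth.Agent.H27.Tate
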