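import Mathlib
import Groth.Prelude.Def_LocRes
import Groth.Agent.H27.Tate.Abstract

/-!
# Tate's residue on Laurent series equals the classical residue
-/

set_option autoImplicit false

namespace Groth.Agent.H27.Tate

open LinearMap HahnSeries WithZero

variable (k : Type*) [Field k] {F : Type*} [Field F] [Algebra k F]

/-- Laurent series with vanishing coefficients below `c`. -/
def Alev (c : ℤ) : Submodule k (LaurentSeries F) where
  carrier := {x | ∀ i < c, x.coeff i = 0}
  add_mem' {x y} hx hy i hi := by rw [coeff_add, hx i hi, hy i hi, add_zero]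
  zero_mem' i _ := rfl
  smul_mem' c x hx i hi := by rw [coeff_smul, hx i hi, smul_zero]

variable {k}

theorem mem_Alev {c : ℤ} {x : LaurentSeries F} : x ∈ Alev k c ↔ ∀ i < c, x.coeff i = 0 := Iff.rfl

theorem mem_Alev_iff_val {c : ℤ} {x : LaurentSeries F} :
    x ∈ Alev k c ↔ Valued.v x ≤ exp (-c) :=
  (LaurentSeries.valuation_le_iff_coeff_lt_eq_zero F).symm

theorem Alev_mono {c c' : ℤ} (h : c' ≤ c) : Alev k (F := F) c ≤ Alev k c' :=
  fun _ hx i hi => hx i (lt_of_lt_of_le hi h)

theorem mul_mem_Alev {p q : ℤ} {x y : LaurentSeries F} (hx : x ∈ Alev k p) (hy : y ∈ Alev k q) :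
    x * y ∈ Alev k (p + q) := by
  rw [mem_Alev_iff_val] at hx hy ⊢
  rw [map_mul, neg_add, exp_add]
  exact mul_le_mul' hx hy

variable (k)

/-- Keep the coefficients of index `≥ c`. -/
noncomputable def tge (c : ℤ) : Module.End k (LaurentSeries F) :=
  1 - HahnSeries.truncLTLinearMap k c

variable {k} in
/-- The coefficientwise action of `k` is multiplication by a constant series. -/
theorem smul_eq_C_mul (c : k) (x : LaurentSeries F) :
    c • x = HahnSeries.C (algebraMap k F c) * x := by
  ext i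
  rw [coeff_smul, HahnSeries.C_apply, coeff_single_zero_mul, Algebra.smul_def]

/-- Multiplication by a Laurent series. -/
noncomputable def mulL (f : LaurentSeries F) : Module.End k (LaurentSeries F) where
  toFun x := f * x
  map_add' := mul_add f
  map_smul' c x := by
    simp only [RingHom.id_apply]
    rw [smul_eq_C_mul, smul_eq_C_mul]
    ring_nf

/-- The coefficient functional. -/
noncomputable def cf (m : ℤ) : LaurentSeries F →ₗ[k] F := HahnSeries.coeff.linearMap m

/-- The monomial embedding. -/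
noncomputable def sg (m : ℤ) : F →ₗ[k] LaurentSeries F := HahnSeries.single.linearMap m

variable {k}

@[simp] theorem mulL_apply (f x : LaurentSeries F) : mulL k f x = f * x := rfl
@[simp] theorem cf_apply (m : ℤ) (x : LaurentSeries F) : cf k m x = x.coeff m := rfl
@[simp] theorem sg_apply (m : ℤ) (a : F) : sg k m a = single m a := rfl

theorem tge_coeff (c i : ℤ) (x : LaurentSeries F) :
    (tge k c x).coeff i = if i < c then 0 else x.coeff i := by
  simp only [tge, LinearMap.sub_apply, Module.End.one_apply, coeff_sub, coe_truncLTLinearMap,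
    HahnSeries.coeff_truncLT]
  split_ifs <;> simp

theorem tge_mem (c : ℤ) (x : LaurentSeries F) : tge k c x ∈ Alev k c := by
  intro i hi
  rw [tge_coeff, if_pos hi]

theorem tge_of_mem {c : ℤ} {x : LaurentSeries F} (hx : x ∈ Alev k c) : tge k c x = x := by
  ext i
  rw [tge_coeff]
  split_ifs with h
  · exact (hx i h).symm
  · rfl

theorem isProjOnto_tge (c : ℤ) : IsProjOnto (Alev k (F := F) c) (tge k c) :=
  ⟨tge_mem c, fun _ ha => tge_of_mem ha⟩

theorem commute_mulL (f g : LaurentSeries F) : Commute (mulL k f) (mulL k g) := by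
  show mulL k f * mulL k g = mulL k g * mulL k f
  refine LinearMap.ext fun x => ?_
  simp only [Module.End.mul_apply, mulL_apply]
  ring

/-- The local commutator `[π f, g]`. -/
noncomputable def thetaL (k : Type*) [Field k] {F : Type*} [Field F] [Algebra k F]
    (f g : LaurentSeries F) : Module.End k (LaurentSeries F) :=
  comm (tge k 0) (mulL k f) (mulL k g)

theorem thetaL_apply (f g x : LaurentSeries F) :
    thetaL k f g x = tge k 0 (f * (g * x)) - g * tge k 0 (f * x) := rfl

section

variable {f g : LaurentSeries F} {a b : ℤ}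

theorem thetaL_mem (hb : 0 ≤ b) (hg : g ∈ Alev k (-b)) (x : LaurentSeries F) :
    thetaL k f g x ∈ Alev k (-b) := by
  rw [thetaL_apply]
  refine sub_mem (Alev_mono (by omega) (tge_mem 0 _)) ?_
  have := mul_mem_Alev hg (tge_mem (k := k) 0 (f * x))
  rwa [add_zero] at this

theorem thetaL_eq_zero (hf : f ∈ Alev k (-a)) (hg : g ∈ Alev k (-b)) (_ha : 0 ≤ a) (hb : 0 ≤ b)
    {x : LaurentSeries F} (hx : x ∈ Alev k (a + b)) : thetaL k f g x = 0 := by
  have h1 : f * x ∈ Alev k 0 := by
    refine Alev_mono ?_ (mul_mem_Alev hf hx)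
    omega
  have h2 : f * (g * x) ∈ Alev k 0 := by
    refine Alev_mono ?_ (mul_mem_Alev hf (mul_mem_Alev hg hx))
    omega
  rw [thetaL_apply, tge_of_mem h1, tge_of_mem h2]
  ring

theorem tge_sub_tge (c M : ℤ) (h : c ≤ M) :
    tge k (F := F) c - tge k M = ∑ m ∈ Finset.Ico c M, sg k m ∘ₗ cf k m := by
  ext x i
  rw [LinearMap.sub_apply, coeff_sub, tge_coeff, tge_coeff, LinearMap.sum_apply, coeff_sum]
  simp only [LinearMap.comp_apply, cf_apply, sg_apply]
  by_cases hi : i ∈ Finset.Ico c M
  · rw [Finset.sum_eq_single_of_mem i hi (fun m _ hm => by rw [coeff_single, if_neg (Ne.symm hm)]),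
      coeff_single, if_pos rfl]
    rw [Finset.mem_Ico] at hi
    rw [if_neg (by omega), if_pos (by omega), sub_zero]
  · rw [Finset.sum_eq_zero (fun m hm => by
      rw [coeff_single, if_neg (fun h => hi (by rw [h]; exact hm))])]
    rw [Finset.mem_Ico] at hi
    split_ifs <;> first | (exfalso; omega) | simp

theorem thetaL_comp_tge (hf : f ∈ Alev k (-a)) (hg : g ∈ Alev k (-b)) (ha : 0 ≤ a) (hb : 0 ≤ b) :
    thetaL k f g ∘ₗ tge k (-b) =
      ∑ m ∈ Finset.Ico (-b) (a + b), (thetaL k f g ∘ₗ sg k m) ∘ₗ cf k m := by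
  have h1 : thetaL k f g ∘ₗ tge k (a + b) = 0 := by
    ext1 x
    rw [LinearMap.comp_apply, thetaL_eq_zero hf hg ha hb (tge_mem _ x), LinearMap.zero_apply]
  have h2 : tge k (F := F) (-b) = (tge k (-b) - tge k (a + b)) + tge k (a + b) := by abel
  rw [h2, LinearMap.comp_add, h1, add_zero, tge_sub_tge _ _ (by omega)]
  ext1 x
  simp only [LinearMap.comp_apply, LinearMap.sum_apply, map_sum]

theorem tge_comp_thetaL (hb : 0 ≤ b) (hg : g ∈ Alev k (-b)) :
    tge k (-b) ∘ₗ thetaL k f g = thetaL k f g := by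
  ext1 x
  rw [LinearMap.comp_apply, tge_of_mem (thetaL_mem hb hg x)]

/-- The diagonal coefficient of `θ` at `X^m`. -/
noncomputable def gam (f g : LaurentSeries F) (m : ℤ) : F :=
  (if 0 ≤ m then (f * g).coeff 0 else 0) - (g * tge F (-m) f).coeff 0

theorem tge_mul_single (f : LaurentSeries F) (m : ℤ) (c : F) :
    tge k 0 (f * single m c) = single m c * tge F (-m) f := by
  ext j
  rw [tge_coeff, coeff_mul_single, coeff_single_mul, tge_coeff]
  by_cases h : j < 0
  · rw [if_pos h, if_pos (by omega), mul_zero]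
  · rw [if_neg h, if_neg (by omega), mul_comm]

theorem cf_thetaL_sg (f g : LaurentSeries F) (m : ℤ) (c : F) :
    cf k m (thetaL k f g (sg k m c)) = gam f g m * c := by
  rw [cf_apply, sg_apply, thetaL_apply, coeff_sub, tge_coeff, tge_mul_single,
    show f * (g * single m c) = (f * g) * single m c by ring, coeff_mul_single,
    show g * (single m c * tge F (-m) f) = single m c * (g * tge F (-m) f) by ring,
    coeff_single_mul, sub_self, gam]
  by_cases h : 0 ≤ m
  · rw [if_pos h, if_neg (by omega)]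
    ring
  · rw [if_neg h, if_pos (by omega)]
    ring

end

variable [FiniteDimensional k F]

theorem ftr_comp_cf (X : F →ₗ[k] LaurentSeries F) (m : ℤ) :
    ftr (X ∘ₗ cf k m) = LinearMap.trace k F (cf k m ∘ₗ X) := by
  have hfp : IsFP (X ∘ₗ cf k m : Module.End k (LaurentSeries F)) := by
    refine ⟨1, ?_⟩
    rw [pow_one]
    exact Submodule.finiteDimensional_of_le (LinearMap.range_comp_le_range (cf k m) X)
  rw [ftr_comm X (cf k m) hfp, ftr_eq_trace_of_finiteDimensional]

/-- The trace of the local commutator as a finite sum of diagonal coefficients. -/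
theorem ftr_thetaL_eq_sum {f g : LaurentSeries F} {a b : ℤ} (hf : f ∈ Alev k (-a))
    (hg : g ∈ Alev k (-b)) (ha : 0 ≤ a) (hb : 0 ≤ b) :
    FiniteDimensional k (range (thetaL k f g * thetaL k f g)) ∧
    ftr (thetaL k f g) = Algebra.trace k F (∑ m ∈ Finset.Ico (-b) (a + b), gam f g m) := by
  have hfr : ∀ m ∈ Finset.Ico (-b) (a + b),
      FiniteDimensional k (range ((thetaL k f g ∘ₗ sg k m) ∘ₗ cf k m)) := fun m _ =>
    Submodule.finiteDimensional_of_le (LinearMap.range_comp_le_range (cf k m) _)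
  have hfd : FiniteDimensional k (range (thetaL k f g ∘ₗ tge k (-b))) := by
    rw [thetaL_comp_tge hf hg ha hb]
    exact finiteDimensional_range_sum _ _ hfr
  have hsq : FiniteDimensional k (range (thetaL k f g * thetaL k f g)) := by
    have : thetaL k f g * thetaL k f g = (thetaL k f g ∘ₗ tge k (-b)) ∘ₗ thetaL k f g := by
      rw [LinearMap.comp_assoc, tge_comp_thetaL hb hg]
      rfl
    rw [this]
    exact Submodule.finiteDimensional_of_le (LinearMap.range_comp_le_range _ _)
  have hfp : IsFP (thetaL k f g) := isFP_of_finiteDimensional_range_sq _ hsq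
  refine ⟨hsq, ?_⟩
  have h1 : ftr (thetaL k f g) = ftr (thetaL k f g ∘ₗ tge k (-b)) := by
    have h := ftr_comm (tge k (-b)) (thetaL k f g) (by rw [tge_comp_thetaL hb hg]; exact hfp)
    rwa [tge_comp_thetaL hb hg] at h
  rw [h1, thetaL_comp_tge hf hg ha hb, ftr_sum_of_finiteRank _ _ hfr, map_sum]
  refine Finset.sum_congr rfl fun m _ => ?_
  rw [ftr_comp_cf, Algebra.trace_apply]
  congr 1
  ext c
  rw [LinearMap.comp_apply, LinearMap.comp_apply, cf_thetaL_sg]
  rfl

section SumGam

omit [Algebra k F] [FiniteDimensional k F]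

theorem sum_Ico_split (f : ℤ → F) {a b c : ℤ} (hab : a ≤ b) (hbc : b ≤ c) :
    ∑ m ∈ Finset.Ico a c, f m = ∑ m ∈ Finset.Ico a b, f m + ∑ m ∈ Finset.Ico b c, f m := by
  rw [← Finset.Ico_union_Ico_eq_Ico hab hbc,
    Finset.sum_union (Finset.Ico_disjoint_Ico_consecutive a b c)]

theorem sum_ite_nonneg {b M : ℤ} (hb : 0 ≤ b) (hM : 0 ≤ M) (c : F) :
    ∑ m ∈ Finset.Ico (-b) M, (if 0 ≤ m then c else 0) = (M : F) * c := by
  rw [sum_Ico_split _ (show -b ≤ 0 by omega) hM,
    Finset.sum_eq_zero (fun m hm => by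
      rw [Finset.mem_Ico] at hm
      rw [if_neg (by omega)]), zero_add,
    show ∑ m ∈ Finset.Ico 0 M, (if 0 ≤ m then c else 0) = ∑ _m ∈ Finset.Ico 0 M, c from
      Finset.sum_congr rfl (fun m hm => by
        rw [Finset.mem_Ico] at hm
        exact if_pos hm.1), Finset.sum_const, Int.card_Ico, sub_zero, nsmul_eq_mul]
  congr 1
  rw [← Int.cast_natCast, Int.toNat_of_nonneg hM]

theorem sum_tge_coeff {f : LaurentSeries F} {a b : ℤ} (hf : ∀ i < -a, f.coeff i = 0)
    (hb : 0 ≤ b) {i : ℤ} (hi : i ≤ b) :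
    (∑ m ∈ Finset.Ico (-b) (a + b), tge F (-m) f).coeff i = ((a + b + i : ℤ) : F) * f.coeff i := by
  rw [coeff_sum]
  simp only [tge_coeff]
  by_cases hfi : f.coeff i = 0
  · simp [hfi]
  · have hia : -a ≤ i := by
      by_contra h
      exact hfi (hf i (by omega))
    rw [sum_Ico_split _ (show -b ≤ -i by omega) (show -i ≤ a + b by omega),
      Finset.sum_eq_zero (fun m hm => by
        rw [Finset.mem_Ico] at hm
        rw [if_pos (by omega)]), zero_add,
      show ∑ m ∈ Finset.Ico (-i) (a + b), (if i < -m then 0 else f.coeff i) =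
          ∑ _m ∈ Finset.Ico (-i) (a + b), f.coeff i from
        Finset.sum_congr rfl (fun m hm => by
          rw [Finset.mem_Ico] at hm
          exact if_neg (by omega)), Finset.sum_const, Int.card_Ico, nsmul_eq_mul]
    congr 1
    rw [← Int.cast_natCast, Int.toNat_of_nonneg (by omega)]
    congr 1
    ring

theorem sum_gam {f g : LaurentSeries F} {a b : ℤ} (hf : ∀ i < -a, f.coeff i = 0)
    (hg : ∀ i < -b, g.coeff i = 0) (ha : 0 ≤ a) (hb : 0 ≤ b) :
    ∑ m ∈ Finset.Ico (-b) (a + b), gam f g m = (f * LocRes.D F g).coeff (-1) := by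
  obtain ⟨Z, hZ⟩ : ∃ Z : LaurentSeries F, Z = ∑ m ∈ Finset.Ico (-b) (a + b), tge F (-m) f :=
    ⟨_, rfl⟩
  obtain ⟨lin, hlin⟩ : ∃ lin : LaurentSeries F,
      lin = HahnSeries.C ((a + b : ℤ) : F) * f + single 1 (1 : F) * LocRes.D F f := ⟨_, rfl⟩
  -- step 1
  have h1 : ∑ m ∈ Finset.Ico (-b) (a + b), gam f g m =
      ((a + b : ℤ) : F) * (f * g).coeff 0 - (g * Z).coeff 0 := by
    unfold gam
    rw [Finset.sum_sub_distrib, sum_ite_nonneg hb (by omega), hZ, Finset.mul_sum, coeff_sum]
  -- step 3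
  have hR : Z - lin ∈ Alev F (b + 1) := by
    intro i hi
    rw [coeff_sub, hZ, sum_tge_coeff hf hb (by omega), hlin, coeff_add, HahnSeries.C_apply,
      coeff_single_zero_mul, coeff_single_mul, LocRes.D_coeff, sub_add_cancel, zsmul_eq_mul]
    push_cast
    ring
  -- step 4
  have h4 : (g * (Z - lin)).coeff 0 = 0 := by
    have hg' : g ∈ Alev F (-b) := hg
    have := mul_mem_Alev hg' hR
    exact this 0 (by omega)
  -- step 5
  have h5 : (g * lin).coeff 0 = ((a + b : ℤ) : F) * (f * g).coeff 0 +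
      (g * LocRes.D F f).coeff (-1) := by
    rw [hlin, show g * (HahnSeries.C ((a + b : ℤ) : F) * f + single 1 (1 : F) * LocRes.D F f) =
      HahnSeries.C ((a + b : ℤ) : F) * (f * g) + single 1 (1 : F) * (g * LocRes.D F f) by ring,
      coeff_add, HahnSeries.C_apply, coeff_single_zero_mul, coeff_single_mul, one_mul, zero_sub]
  -- step 6
  have h6 : (f * LocRes.D F g).coeff (-1) + (g * LocRes.D F f).coeff (-1) = 0 := by
    have := LocRes.D_coeff F (f * g) (-1)
    rw [Derivation.leibniz, smul_eq_mul, smul_eq_mul, coeff_add] at this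
    rw [this]
    simp
  have h7 : (g * Z).coeff 0 = (g * (Z - lin)).coeff 0 + (g * lin).coeff 0 := by
    rw [← coeff_add, ← mul_add, sub_add_cancel]
  rw [h1, h7, h4, h5]
  linear_combination (-1 : F) * h6

end SumGam

/-- **Tate's local formula**: the trace of `[π f, g]` on `F((X))` is the trace of the classical
residue of `f dg`. -/
theorem ftr_thetaL (f g : LaurentSeries F) :
    FiniteDimensional k (range (thetaL k f g * thetaL k f g)) ∧
    ftr (thetaL k f g) = Algebra.trace k F ((f * LocRes.D F g).coeff (-1)) := by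
  obtain ⟨a, ha, hf⟩ : ∃ a : ℤ, 0 ≤ a ∧ ∀ i < -a, f.coeff i = 0 :=
    ⟨max 0 (-f.order), le_max_left _ _, fun i hi =>
      coeff_eq_zero_of_lt_order (lt_of_lt_of_le hi (by
        have := le_max_right 0 (-f.order); omega))⟩
  obtain ⟨b, hb, hg⟩ : ∃ b : ℤ, 0 ≤ b ∧ ∀ i < -b, g.coeff i = 0 :=
    ⟨max 0 (-g.order), le_max_left _ _, fun i hi =>
      coeff_eq_zero_of_lt_order (lt_of_lt_of_le hi (by
        have := le_max_right 0 (-g.order); omega))⟩
  obtain ⟨h1, h2⟩ := ftr_thetaL_eq_sum (k := k) (f := f) (g := g) hf hg ha hb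
  exact ⟨h1, by rw [h2, sum_gam hf hg ha hb]⟩

end Groth.Agent.H27.Tate
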