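import Mathlib
import Groth.Prelude.Def_LocRes
import Groth.Agent.H27.Tate.Local
import Groth.Agent.H27.DiffExp
import Groth.Agent.H55.FFGeom

/-!
# A place of a geometric function field that admits a Laurent expansion over a finite coefficient
field is separable
-/

set_option autoImplicit false

namespace Groth.Agent.H27.SepPlace

open FunFld WithZero HahnSeries Groth.Agent.H55 Groth.Agent.H27.Tate

universe u v w

section MapD

variable {k : Type u} {F : Type w} [Field k] [Field F] [Algebra k F] (δ : Derivation k F F)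

/-- Coefficientwise application of a derivation of the coefficient field. -/
noncomputable def mapD (x : LaurentSeries F) : LaurentSeries F := x.map δ.toLinearMap

@[simp] theorem mapD_coeff (x : LaurentSeries F) (i : ℤ) : (mapD δ x).coeff i = δ (x.coeff i) := rfl

theorem support_mapD (x : LaurentSeries F) : (mapD δ x).support ⊆ x.support := by
  intro i hi
  rw [HahnSeries.mem_support] at hi ⊢
  intro h0
  apply hi
  rw [mapD_coeff, h0, map_zero]

theorem mapD_add (x y : LaurentSeries F) : mapD δ (x + y) = mapD δ x + mapD δ y := by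
  ext i
  simp

theorem mapD_smul (c : k) (x : LaurentSeries F) : mapD δ (c • x) = c • mapD δ x := by
  ext i
  simp

theorem mapD_one : mapD δ (1 : LaurentSeries F) = 0 := by
  ext i
  rw [mapD_coeff, HahnSeries.coeff_one]
  split_ifs <;> simp

theorem mapD_mul (x y : LaurentSeries F) :
    mapD δ (x * y) = x * mapD δ y + y * mapD δ x := by
  ext a
  rw [mapD_coeff, coeff_add, HahnSeries.coeff_mul, mul_comm y (mapD δ x),
    coeff_mul_left' x.isPWO_support (support_mapD δ x),
    coeff_mul_right' y.isPWO_support (support_mapD δ y), map_sum, ← Finset.sum_add_distrib]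
  refine Finset.sum_congr rfl fun ij _ => ?_
  rw [Derivation.leibniz, mapD_coeff, mapD_coeff, smul_eq_mul, smul_eq_mul]
  ring

theorem mapD_mem_Alev {x : LaurentSeries F} {c : ℤ} (hx : x ∈ Alev F c) : mapD δ x ∈ Alev F c := by
  intro i hi
  rw [mapD_coeff, hx i hi, map_zero]

end MapD

section Chain

variable {k : Type u} {K : Type v} {F : Type w} [Field k] [Field K] [Field F] [Algebra k K]
  [Algebra k F] (δ : Derivation k F F)

/-- `f ↦ δ̃ (φ f)` as a derivation of `K` into Laurent series. -/
noncomputable def dMap (φ : K →ₐ[k] LaurentSeries F) :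
    letI := φ.toRingHom.toAlgebra
    Derivation k K (LaurentSeries F) :=
  letI := φ.toRingHom.toAlgebra
  { toFun := fun a => mapD δ (φ a)
    map_add' := fun a b => show mapD δ (φ (a + b)) = mapD δ (φ a) + mapD δ (φ b) by
      rw [map_add, mapD_add]
    map_smul' := fun c a => show mapD δ (φ (c • a)) = c • mapD δ (φ a) by
      rw [Algebra.smul_def, map_mul, LocRes.map_algebraMap, HahnSeries.C_mul_eq_smul,
        algebraMap_smul, mapD_smul]
    map_one_eq_zero' := show mapD δ (φ 1) = 0 by rw [map_one, mapD_one]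
    leibniz' := fun a b => show mapD δ (φ (a * b)) = φ a * mapD δ (φ b) + φ b * mapD δ (φ a) by
      rw [map_mul, mapD_mul] }

theorem chain_rule_mapD (φ : K →ₐ[k] LaurentSeries F) (x t g : K)
    (h : KaehlerDifferential.D k K x = g • KaehlerDifferential.D k K t) :
    mapD δ (φ x) = φ g * mapD δ (φ t) := by
  let _i := φ.toRingHom.toAlgebra
  have _t : IsScalarTower k K (LaurentSeries F) := LocRes.isScalarTower_exp φ
  have h1 := congrArg (dMap δ φ).liftKaehlerDifferential h
  rw [map_smul, Derivation.liftKaehlerDifferential_comp_D,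
    Derivation.liftKaehlerDifferential_comp_D] at h1
  exact h1

end Chain

section Coeff

variable {F : Type w} [Field F]

theorem coeff_zero_mul {x y : LaurentSeries F} (hx : x ∈ Alev F 0) (hy : y ∈ Alev F 0) :
    (x * y).coeff 0 = x.coeff 0 * y.coeff 0 := by
  have h1 : x - HahnSeries.C (x.coeff 0) ∈ Alev F 1 := by
    intro i hi
    rw [coeff_sub, HahnSeries.C_apply, coeff_single]
    rcases lt_or_eq_of_le (show i ≤ 0 by omega) with h | h
    · rw [hx i h, if_neg (by omega), sub_zero]
    · rw [if_pos h, h, sub_self]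
  have h2 := mul_mem_Alev h1 hy
  have h3 : ((x - HahnSeries.C (x.coeff 0)) * y).coeff 0 = 0 := h2 0 (by norm_num)
  have h4 : x * y = (x - HahnSeries.C (x.coeff 0)) * y + HahnSeries.C (x.coeff 0) * y := by ring
  rw [h4, coeff_add, h3, zero_add, HahnSeries.C_apply, coeff_single_zero_mul]

theorem D_mem_Alev {x : LaurentSeries F} (hx : x ∈ Alev F 0) : LocRes.D F x ∈ Alev F 0 := by
  intro i hi
  rw [LocRes.D_coeff]
  rcases lt_or_eq_of_le (show i + 1 ≤ 0 by omega) with h | h
  · rw [hx _ h, smul_zero]
  · rw [h, zero_smul]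

end Coeff

section Main

variable {k : Type u} {K : Type v} {F : Type w} [Field k] [Field K] [Field F] [Algebra k K]
  [Algebra k F]

/-- No nonzero `k`-derivation of the coefficient field of an expansion of a function field with
one-dimensional differentials. -/
theorem derivation_eq_zero (hfr : Module.finrank K (Ω[K⁄k]) = 1)
    {w : Valuation K (WithZero (Multiplicative ℤ))} (φ : K →ₐ[k] LaurentSeries F)
    (hφ : LocRes.IsExpansionAt w φ) (δ : Derivation k F F) : δ = 0 := by
  by_contra hδ
  obtain ⟨a, ha⟩ : ∃ a, δ a ≠ 0 := by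
    by_contra hcon
    push Not at hcon
    exact hδ (Derivation.ext hcon)
  obtain ⟨h1, h2, t, ht⟩ := hφ
  obtain ⟨h, hh1, hh2⟩ := h2 a
  -- the uniformizer
  have hT : Valued.v (φ t) = exp (-(1 : ℤ)) := by rw [h1, ht]
  have hT1 : φ t ∈ Alev F 1 := mem_Alev_iff_val.2 hT.le
  have hDT : Valued.v (LocRes.D F (φ t)) = 1 :=
    (Groth.Agent.H27.DiffExp.valued_D_of_val (e := 1) hT).2.1 (by simp) |>.trans (by simp)
  have hc1 : (LocRes.D F (φ t)).coeff 0 ≠ 0 := by
    intro h0
    have : Valued.v (LocRes.D F (φ t)) ≤ exp (-(1 : ℤ)) := by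
      rw [LaurentSeries.valuation_le_iff_coeff_lt_eq_zero]
      intro i hi
      rcases lt_or_eq_of_le (show i ≤ 0 by omega) with h' | h'
      · exact (LaurentSeries.valuation_le_iff_coeff_lt_eq_zero F).1
          (show Valued.v (LocRes.D F (φ t)) ≤ exp (-(0 : ℤ)) by rw [hDT]; simp) i h'
      · rw [h']; exact h0
    rw [hDT, ← exp_zero, exp_le_exp] at this
    omega
  have hDT0 : LocRes.D F (φ t) ∈ Alev F 0 := D_mem_Alev (Alev_mono (by norm_num) hT1)
  have hdt : KaehlerDifferential.D k K t ≠ 0 :=
    Groth.Agent.H27.DiffExp.D_ne_zero_of_expansion φ t (by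
      intro h0
      rw [h0, map_zero] at hDT
      exact zero_ne_one hDT)
  -- the element with residue `a`
  have hH0 : φ h ∈ Alev F 0 := by
    rw [mem_Alev_iff_val, h1, neg_zero, exp_zero]
    exact hh1
  obtain ⟨g, hg⟩ := (finrank_eq_one_iff_of_nonzero' _ hdt).1 hfr (KaehlerDifferential.D k K h)
  have e1 := Groth.Agent.H27.DiffExp.chain_rule φ h t g hg.symm
  have e2 := chain_rule_mapD δ φ h t g hg.symm
  have e3 : mapD δ (φ h) * LocRes.D F (φ t) = mapD δ (φ t) * LocRes.D F (φ h) := by
    rw [e1, e2]
    ring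
  have e4 : (mapD δ (φ h) * LocRes.D F (φ t)).coeff 0 =
      (mapD δ (φ t) * LocRes.D F (φ h)).coeff 0 := by rw [e3]
  rw [coeff_zero_mul (mapD_mem_Alev δ hH0) hDT0, mapD_coeff, hh2] at e4
  have e5 : (mapD δ (φ t) * LocRes.D F (φ h)).coeff 0 = 0 := by
    have := mul_mem_Alev (mapD_mem_Alev δ hT1) (D_mem_Alev hH0)
    exact this 0 (by norm_num)
  rw [e5] at e4
  exact mul_ne_zero ha hc1 e4

theorem isSeparable_of_isExpansionAt [FiniteDimensional k F]
    (hfr : Module.finrank K (Ω[K⁄k]) = 1)
    {w : Valuation K (WithZero (Multiplicative ℤ))} (φ : K →ₐ[k] LaurentSeries F)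
    (hφ : LocRes.IsExpansionAt w φ) : Algebra.IsSeparable k F := by
  have : Algebra.FormallyUnramified k F := by
    refine ⟨⟨fun ω₁ ω₂ => ?_⟩⟩
    by_contra hne
    have hsub : ω₁ - ω₂ ≠ 0 := sub_ne_zero.2 hne
    obtain ⟨ℓ, hℓ⟩ := Module.Projective.exists_dual_ne_zero F hsub
    have h0 := derivation_eq_zero hfr φ hφ (ℓ.compDer (KaehlerDifferential.D k F))
    have h1 : ∀ x : F, ℓ (KaehlerDifferential.D k F x) = 0 := fun x => by
      have := congrArg (fun d : Derivation k F F => d x) h0
      simpa using this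
    have h2 : ℓ = 0 := by
      apply LinearMap.ext_on_range (KaehlerDifferential.span_range_derivation k F)
      intro x
      rw [h1 x, LinearMap.zero_apply]
    rw [h2, LinearMap.zero_apply] at hℓ
    exact hℓ rfl
  exact Algebra.FormallyUnramified.isSeparable k F

end Main

end Groth.Agent.H27.SepPlace
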