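import Groth.Agent.H27.Tate.Abstract

/-!
# The finite-potent trace of a diagonal endomorphism of a finite product
-/

set_option autoImplicit false

namespace Groth.Agent.H27.Tate

open LinearMap

variable {k : Type*} [Field k] {V : Type*} [AddCommGroup V] [Module k V]

theorem ftr_sum_of_mul_finiteRank {ι : Type*} (s : Finset ι) (θ : ι → Module.End k V)
    (h : ∀ i ∈ s, ∀ j ∈ s, FiniteDimensional k (range (θ i * θ j))) :
    ftr (∑ i ∈ s, θ i) = ∑ i ∈ s, ftr (θ i) := by
  classical
  induction s using Finset.induction_on with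
  | empty =>
    simp only [Finset.sum_empty]
    exact ftr_eq_zero_of_mul_self 0 (mul_zero 0)
  | insert a s ha ih =>
    rw [Finset.sum_insert ha, Finset.sum_insert ha]
    have hs : ∀ i ∈ s, ∀ j ∈ s, FiniteDimensional k (range (θ i * θ j)) := fun i hi j hj =>
      h i (Finset.mem_insert_of_mem hi) j (Finset.mem_insert_of_mem hj)
    have haa := h a (Finset.mem_insert_self a s) a (Finset.mem_insert_self a s)
    have h1 : FiniteDimensional k (range (θ a * ∑ j ∈ s, θ j)) := by
      rw [Finset.mul_sum]
      exact finiteDimensional_range_sum _ _ (fun j hj =>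
        h a (Finset.mem_insert_self a s) j (Finset.mem_insert_of_mem hj))
    have h2 : FiniteDimensional k (range ((∑ j ∈ s, θ j) * θ a)) := by
      rw [Finset.sum_mul]
      exact finiteDimensional_range_sum _ _ (fun j hj =>
        h j (Finset.mem_insert_of_mem hj) a (Finset.mem_insert_self a s))
    have h3 : FiniteDimensional k (range ((∑ j ∈ s, θ j) * ∑ j ∈ s, θ j)) := by
      rw [Finset.sum_mul]
      refine finiteDimensional_range_sum _ _ (fun i hi => ?_)
      rw [Finset.mul_sum]
      exact finiteDimensional_range_sum _ _ (fun j hj => hs i hi j hj)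
    rw [ftr_add _ _ haa h1 h2 h3, ih hs]

theorem ftr_pi {ι : Type*} [Fintype ι] [DecidableEq ι] {W : ι → Type*}
    [∀ i, AddCommGroup (W i)] [∀ i, Module k (W i)] (θ : ∀ i, Module.End k (W i))
    (h : ∀ i, FiniteDimensional k (range (θ i * θ i))) :
    ftr (LinearMap.pi fun i => θ i ∘ₗ LinearMap.proj i : Module.End k (∀ i, W i)) =
      ∑ i, ftr (θ i) := by
  set T : ι → Module.End k (∀ i, W i) := fun i =>
    LinearMap.single k W i ∘ₗ (θ i ∘ₗ LinearMap.proj i) with hT
  have e1 : (LinearMap.pi fun i => θ i ∘ₗ LinearMap.proj i : Module.End k (∀ i, W i)) =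
      ∑ i, T i := by
    refine LinearMap.ext fun x => funext fun j => ?_
    rw [LinearMap.sum_apply, Finset.sum_apply, LinearMap.pi_apply, LinearMap.comp_apply,
      LinearMap.proj_apply]
    rw [Finset.sum_eq_single j]
    · simp [hT]
    · intro i _ hij
      simp [hT, hij.symm]
    · intro hj
      exact absurd (Finset.mem_univ j) hj
  have e2 : ∀ i j, i ≠ j → T i * T j = 0 := by
    intro i j hij
    refine LinearMap.ext fun x => ?_
    simp only [hT, Module.End.mul_apply, LinearMap.comp_apply, LinearMap.proj_apply,
      LinearMap.single_apply, LinearMap.zero_apply]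
    rw [Pi.single_eq_of_ne hij, map_zero, Pi.single_zero]
  have e3 : ∀ i, T i * T i = LinearMap.single k W i ∘ₗ ((θ i * θ i) ∘ₗ LinearMap.proj i) := by
    intro i
    refine LinearMap.ext fun x => ?_
    simp only [hT, Module.End.mul_apply, LinearMap.comp_apply, LinearMap.proj_apply,
      LinearMap.single_apply, Pi.single_eq_same]
  have hfd : ∀ i ∈ (Finset.univ : Finset ι), ∀ j ∈ (Finset.univ : Finset ι),
      FiniteDimensional k (range (T i * T j)) := by
    intro i _ j _
    by_cases hij : i = j
    · subst hij
      rw [e3, LinearMap.range_comp]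
      have h0 := h i
      have : FiniteDimensional k (range ((θ i * θ i) ∘ₗ LinearMap.proj i)) :=
        Submodule.finiteDimensional_of_le (LinearMap.range_comp_le_range _ _)
      infer_instance
    · rw [e2 i j hij, LinearMap.range_zero]
      infer_instance
  rw [e1, ftr_sum_of_mul_finiteRank _ _ hfd]
  refine Finset.sum_congr rfl fun i _ => ?_
  have hfp : IsFP (T i) := isFP_of_finiteDimensional_range_sq _ (hfd i (Finset.mem_univ i) i
    (Finset.mem_univ i))
  have := ftr_comm (LinearMap.single k W i) (θ i ∘ₗ LinearMap.proj i) hfp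
  rw [hT]
  rw [this]
  congr 1
  refine LinearMap.ext fun x => ?_
  simp

end Groth.Agent.H27.Tate
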