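import Mathlib
import Groth.Prelude.Def_LocRes
import Groth.Prelude.Def_W4bk4goldsch23FF
import Groth.Agent.H27.Tate.Local
import Groth.Agent.H27.Tate.PiTrace
import Groth.Agent.H55.FFAdele

/-!
# The residue theorem on a function field (Tate's proof)
-/

set_option autoImplicit false

namespace Groth.Agent.H27.Tate

open LinearMap HahnSeries WithZero FunFld Groth.Agent.H55

universe u v w

variable {k : Type u} {K : Type v} [Field k] [Field K] [Algebra k K]

section Density

variable {F : Type w} [Field F] [Algebra k F]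

/-- An expansion, as a linear map for the coefficientwise `k`-action. -/
noncomputable def expL (φ : K →ₐ[k] LaurentSeries F) : K →ₗ[k] LaurentSeries F where
  toFun := φ
  map_add' := map_add φ
  map_smul' c x := by
    simp only [RingHom.id_apply]
    rw [Algebra.smul_def, map_mul, LocRes.map_algebraMap, smul_eq_C_mul]

@[simp] theorem expL_apply (φ : K →ₐ[k] LaurentSeries F) (x : K) : expL φ x = φ x := rfl

theorem exists_le_exp_nat (ξ : LaurentSeries F) : ∃ n : ℕ, Valued.v ξ ≤ exp (n : ℤ) := by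
  by_cases h : Valued.v ξ = 0
  · exact ⟨0, by rw [h]; exact zero_le⟩
  · refine ⟨(log (Valued.v ξ)).toNat, ?_⟩
    rw [← exp_log h, exp_le_exp]
    exact Int.self_le_toNat _

theorem density {w : Valuation K (WithZero (Multiplicative ℤ))} {φ : K →ₐ[k] LaurentSeries F}
    (hφ : LocRes.IsExpansionAt w φ) (ξ : LaurentSeries F) :
    ∃ x : K, ξ - φ x ∈ Alev k 0 := by
  obtain ⟨h1, h2, t, ht⟩ := hφ
  have hT : Valued.v (φ t) = exp (-1 : ℤ) := by rw [h1, ht]
  have hT0 : φ t ≠ 0 := by
    intro h0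
    rw [h0, map_zero] at hT
    exact exp_ne_zero hT.symm
  have key : ∀ n : ℕ, ∀ ξ : LaurentSeries F, Valued.v ξ ≤ exp (n : ℤ) →
      ∃ x : K, Valued.v (ξ - φ x) ≤ 1 := by
    intro n
    induction n with
    | zero =>
      intro ξ hξ
      refine ⟨0, ?_⟩
      rw [map_zero, sub_zero]
      simpa using hξ
    | succ n ih =>
      intro ξ hξ
      have hTn : Valued.v (φ t ^ (n + 1)) = exp (-((n : ℤ) + 1)) := by
        rw [map_pow, hT, ← exp_nsmul]
        congr 1
        simp
      have hξ' : Valued.v (ξ * φ t ^ (n + 1)) ≤ exp (-(0 : ℤ)) := by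
        rw [map_mul, hTn]
        calc Valued.v ξ * exp (-((n : ℤ) + 1)) ≤ exp ((n + 1 : ℕ) : ℤ) * exp (-((n : ℤ) + 1)) :=
              mul_le_mul' hξ le_rfl
          _ = exp (-(0 : ℤ)) := by
              rw [← exp_add]
              congr 1
              push_cast
              ring
      obtain ⟨h, hh1, hh2⟩ := h2 ((ξ * φ t ^ (n + 1)).coeff 0)
      have hφh : Valued.v (φ h) ≤ exp (-(0 : ℤ)) := by
        rw [h1, neg_zero, exp_zero]
        exact hh1
      have hη : Valued.v (ξ * φ t ^ (n + 1) - φ h) ≤ exp (-(1 : ℤ)) := by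
        rw [LaurentSeries.valuation_le_iff_coeff_lt_eq_zero]
        intro i hi
        rw [coeff_sub]
        rcases lt_or_eq_of_le (show i ≤ 0 by omega) with hi0 | hi0
        · rw [(LaurentSeries.valuation_le_iff_coeff_lt_eq_zero F).1 hξ' i hi0,
            (LaurentSeries.valuation_le_iff_coeff_lt_eq_zero F).1 hφh i hi0, sub_zero]
        · rw [hi0, hh2, sub_self]
      have hx1 : ξ - φ (h * (t ^ (n + 1))⁻¹) = (ξ * φ t ^ (n + 1) - φ h) * (φ t ^ (n + 1))⁻¹ := by
        rw [map_mul, map_inv₀, map_pow]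
        field_simp
      have hv : Valued.v (ξ - φ (h * (t ^ (n + 1))⁻¹)) ≤ exp (n : ℤ) := by
        rw [hx1, map_mul, map_inv₀, hTn]
        calc Valued.v (ξ * φ t ^ (n + 1) - φ h) * (exp (-((n : ℤ) + 1)))⁻¹
            ≤ exp (-(1 : ℤ)) * (exp (-((n : ℤ) + 1)))⁻¹ := mul_le_mul' hη le_rfl
          _ = exp (n : ℤ) := by
              rw [← exp_neg, ← exp_add]
              congr 1
              ring
      obtain ⟨x₂, hx₂⟩ := ih _ hv
      refine ⟨h * (t ^ (n + 1))⁻¹ + x₂, ?_⟩
      rw [map_add, ← sub_sub]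
      exact hx₂
  obtain ⟨n, hn⟩ := exists_le_exp_nat ξ
  obtain ⟨x, hx⟩ := key n ξ hn
  refine ⟨x, ?_⟩
  rw [mem_Alev_iff_val, neg_zero, exp_zero]
  exact hx

end Density

section Global

open scoped Classical

variable (F : Place k K → Type w) [∀ P, Field (F P)] [∀ P, Algebra k (F P)]
  (S : Finset (Place k K))

/-- The product of the Laurent series fields at the places in `S`. -/
abbrev VS : Type _ := (P : ↥S) → LaurentSeries (F P.1)

/-- The componentwise nonnegative part. -/
noncomputable def AS : Submodule k (VS F S) := Submodule.pi Set.univ fun _ => Alev k 0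

/-- The componentwise truncation. -/
noncomputable def piS : Module.End k (VS F S) :=
  LinearMap.pi fun P => tge k 0 ∘ₗ LinearMap.proj P

/-- Componentwise multiplication. -/
noncomputable def mulS (h : VS F S) : Module.End k (VS F S) :=
  LinearMap.pi fun P => mulL k (h P) ∘ₗ LinearMap.proj P

/-- Laurent polynomials with exponents in `[-a, 0)` at every place of `S`. -/
noncomputable def US (a : ℤ) : Submodule k (VS F S) where
  carrier := {x | ∀ (P : ↥S) (i : ℤ), (i < -a ∨ 0 ≤ i) → (x P).coeff i = 0}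
  add_mem' {x y} hx hy P i hi := by
    rw [Pi.add_apply, coeff_add, hx P i hi, hy P i hi, add_zero]
  zero_mem' P i _ := rfl
  smul_mem' c x hx P i hi := by
    rw [Pi.smul_apply, coeff_smul, hx P i hi, smul_zero]

variable {F S}

theorem mem_AS {x : VS F S} : x ∈ AS F S ↔ ∀ P, x P ∈ Alev k 0 := by
  simp [AS, Submodule.mem_pi]

@[simp] theorem piS_apply (x : VS F S) (P : ↥S) : piS F S x P = tge k 0 (x P) := rfl

@[simp] theorem mulS_apply (h x : VS F S) (P : ↥S) : mulS F S h x P = h P * x P := rfl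

theorem isProjOnto_piS : IsProjOnto (AS F S) (piS F S) :=
  ⟨fun x => mem_AS.2 fun P => tge_mem 0 (x P),
    fun _x hx => funext fun P => tge_of_mem (mem_AS.1 hx P)⟩

theorem commute_mulS (h₁ h₂ : VS F S) : Commute (mulS F S h₁) (mulS F S h₂) := by
  show mulS F S h₁ * mulS F S h₂ = mulS F S h₂ * mulS F S h₁
  refine LinearMap.ext fun x => funext fun P => ?_
  simp only [Module.End.mul_apply, mulS_apply]
  ring

theorem exists_bound (h : VS F S) : ∃ a : ℤ, 0 ≤ a ∧ ∀ P, h P ∈ Alev k (-a) := by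
  refine ⟨∑ P : ↥S, max 0 (-(h P).order), Finset.sum_nonneg (fun _ _ => le_max_left _ _),
    fun P i hi => ?_⟩
  have h1 : max 0 (-(h P).order) ≤ ∑ Q : ↥S, max 0 (-(h Q).order) :=
    Finset.single_le_sum (f := fun Q : ↥S => max 0 (-(h Q).order))
      (fun _ _ => le_max_left _ _) (Finset.mem_univ P)
  have h2 := le_max_right 0 (-(h P).order)
  exact coeff_eq_zero_of_lt_order (by omega)

theorem finiteDimensional_US [∀ P, FiniteDimensional k (F P)] (a : ℤ) :
    FiniteDimensional k (US F S a) := by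
  let Λ : VS F S →ₗ[k] ((P : ↥S) → Fin a.toNat → F P.1) :=
    LinearMap.pi fun P => LinearMap.pi fun j => cf k ((j : ℕ) - a) ∘ₗ LinearMap.proj P
  have hΛ : ∀ (x : VS F S) (P : ↥S) (j : Fin a.toNat), Λ x P j = (x P).coeff ((j : ℕ) - a) :=
    fun _ _ _ => rfl
  have hinj : Function.Injective (Λ.domRestrict (US F S a)) := by
    rw [injective_iff_map_eq_zero]
    rintro ⟨x, hx⟩ h0
    refine Subtype.ext (funext fun P => ?_)
    ext i
    rw [LinearMap.domRestrict_apply] at h0
    by_cases hi : i < -a ∨ 0 ≤ i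
    · exact hx P i hi
    · have hj : (i + a).toNat < a.toNat := by omega
      have := congr_fun (congr_fun h0 P) ⟨(i + a).toNat, hj⟩
      rw [hΛ] at this
      have e : (((⟨(i + a).toNat, hj⟩ : Fin a.toNat) : ℕ) : ℤ) - a = i := by
        show ((i + a).toNat : ℤ) - a = i
        omega
      rw [e] at this
      exact this
  exact Module.Finite.of_injective _ hinj

theorem nearStable_mulS [∀ P, FiniteDimensional k (F P)] (h : VS F S) :
    NearStable (AS F S) (mulS F S h) := by
  obtain ⟨a, ha, hh⟩ := exists_bound h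
  refine ⟨US F S a, finiteDimensional_US a, fun x hx => ?_⟩
  have hy : ∀ P, mulS F S h x P ∈ Alev k (-a) := fun P => by
    have := mul_mem_Alev (hh P) (mem_AS.1 hx P)
    rwa [add_zero] at this
  refine Submodule.mem_sup.2 ⟨piS F S (mulS F S h x), isProjOnto_piS.mem _,
    mulS F S h x - piS F S (mulS F S h x), ?_, by abel⟩
  intro P i hi
  rw [Pi.sub_apply, coeff_sub, piS_apply, tge_coeff]
  rcases hi with hi | hi
  · rw [if_pos (by omega), hy P i hi, sub_zero]
  · rw [if_neg (by omega), sub_self]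

variable (φ : ∀ P, K →ₐ[k] LaurentSeries (F P))

/-- The diagonal expansion map. -/
noncomputable def Psi (S : Finset (Place k K)) : K →ₗ[k] VS F S :=
  LinearMap.pi fun P => expL (φ P.1)

/-- The componentwise expansion map. -/
noncomputable def PsiE (S : Finset (Place k K)) : (↥S → K) →ₗ[k] VS F S :=
  LinearMap.pi fun P => expL (φ P.1) ∘ₗ LinearMap.proj P

@[simp] theorem Psi_apply (x : K) (P : ↥S) : Psi φ S x P = φ P.1 x := rfl

@[simp] theorem PsiE_apply (x : ↥S → K) (P : ↥S) : PsiE φ S x P = φ P.1 (x P) := rfl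

/-- Functions integral outside `S`. -/
noncomputable def OS (S : Finset (Place k K)) : Submodule k K where
  carrier := {x | ∀ P : Place k K, P ∉ S → P.1 x ≤ 1}
  add_mem' {x y} hx hy P hP := (P.1.map_add x y).trans (max_le (hx P hP) (hy P hP))
  zero_mem' P _ := by simp
  smul_mem' c x hx P hP := by
    rw [Algebra.smul_def, map_mul]
    exact (mul_le_mul' (P.2.1 c) (hx P hP)).trans_eq (one_mul _)

/-- The image of the functions integral outside `S`. -/
noncomputable def BS (S : Finset (Place k K)) : Submodule k (VS F S) := (OS S).map (Psi φ S)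

theorem mulS_mem_BS {u : K} (hu : u ∈ OS (k := k) S) :
    ∀ b ∈ BS φ S, mulS F S (fun P => φ P.1 u) b ∈ BS φ S := by
  rintro _ ⟨x, hx, rfl⟩
  refine ⟨u * x, fun P hP => ?_, ?_⟩
  · rw [map_mul]
    exact mul_le_one' (hu P hP) (hx P hP)
  · funext P
    rw [Psi_apply, mulS_apply, Psi_apply, map_mul]

theorem finiteDimensional_inf (hK : IsFunctionField k K)
    (hφ : ∀ P, LocRes.IsExpansionAt P.1 (φ P)) :
    FiniteDimensional k (AS F S ⊓ BS φ S : Submodule k (VS F S)) := by
  have := (L_zero_finite hK).1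
  have hle : AS F S ⊓ BS φ S ≤ (L (0 : Divisor k K)).map (Psi φ S) := by
    rintro _ ⟨hA, x, hx, rfl⟩
    refine ⟨x, fun P => ?_, rfl⟩
    rw [Finsupp.coe_zero, Pi.zero_apply, exp_zero]
    by_cases hP : P ∈ S
    · have := mem_AS.1 hA ⟨P, hP⟩
      rw [Psi_apply, mem_Alev_iff_val, (hφ P).1, neg_zero, exp_zero] at this
      exact this
    · exact hx P hP
  exact Submodule.finiteDimensional_of_le hle

/-- Extension by zero of a family indexed by `S` to a repartition. -/
noncomputable def extZ (S : Finset (Place k K)) : (↥S → K) →ₗ[k] adele k K where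
  toFun x := ⟨fun P => if h : P ∈ S then x ⟨P, h⟩ else 0, by
    rw [mem_adele]
    refine S.finite_toSet.subset fun P hP => ?_
    by_contra hPS
    apply hP
    rw [dif_neg (show P ∉ S from hPS), map_zero]
    exact zero_le_one⟩
  map_add' x y := by
    refine Subtype.ext (funext fun P => ?_)
    show _ = (if h : P ∈ S then x ⟨P, h⟩ else 0) + (if h : P ∈ S then y ⟨P, h⟩ else 0)
    by_cases h : P ∈ S
    · simp only [dif_pos h, Pi.add_apply]
    · simp only [dif_neg h, add_zero]
  map_smul' c x := by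
    refine Subtype.ext (funext fun P => ?_)
    show _ = c • (if h : P ∈ S then x ⟨P, h⟩ else 0)
    by_cases h : P ∈ S
    · simp only [dif_pos h, Pi.smul_apply]
    · simp only [dif_neg h, smul_zero]

theorem extZ_apply (x : ↥S → K) (P : Place k K) :
    (extZ S x : Place k K → K) P = if h : P ∈ S then x ⟨P, h⟩ else 0 := rfl

theorem finiteDimensional_quot (hK : IsFunctionField k K)
    (hφ : ∀ P, LocRes.IsExpansionAt P.1 (φ P)) :
    FiniteDimensional k (VS F S ⧸ (AS F S ⊔ BS φ S)) := by
  have : Module.Finite k (RelQ (AD (0 : Divisor k K) ⊔ Kd k K) (adele k K)) :=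
    (relfr_adele hK 0).1
  set Θ : (↥S → K) →ₗ[k] RelQ (AD (0 : Divisor k K) ⊔ Kd k K) (adele k K) :=
    (Submodule.mkQ _) ∘ₗ extZ S with hΘ
  set Ψb : (↥S → K) →ₗ[k] VS F S ⧸ (AS F S ⊔ BS φ S) :=
    (Submodule.mkQ _) ∘ₗ PsiE φ S with hΨb
  have hker : LinearMap.ker Θ ≤ LinearMap.ker Ψb := by
    intro x hx
    rw [LinearMap.mem_ker, hΘ, LinearMap.comp_apply, Submodule.mkQ_apply,
      Submodule.Quotient.mk_eq_zero, Submodule.mem_comap, Submodule.subtype_apply] at hx
    obtain ⟨α, hα, z, ⟨y, rfl⟩, hsum⟩ := Submodule.mem_sup.1 hx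
    have hP : ∀ P : Place k K, α P + y = if h : P ∈ S then x ⟨P, h⟩ else 0 := fun P => by
      have := congr_fun hsum P
      rwa [extZ_apply] at this
    have hy : y ∈ OS (k := k) S := by
      intro P hPS
      have h1 := hP P
      rw [dif_neg hPS] at h1
      have h2 : y = -α P := eq_neg_of_add_eq_zero_right h1
      rw [h2, Valuation.map_neg]
      have := hα P
      rwa [Finsupp.coe_zero, Pi.zero_apply, exp_zero] at this
    rw [LinearMap.mem_ker, hΨb, LinearMap.comp_apply, Submodule.mkQ_apply,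
      Submodule.Quotient.mk_eq_zero]
    have e : PsiE φ S x = (fun P : ↥S => φ P.1 (α P.1)) + Psi φ S y := by
      funext P
      rw [Pi.add_apply, PsiE_apply, Psi_apply, ← map_add, hP P.1, dif_pos P.2]
    rw [e]
    refine Submodule.add_mem_sup (mem_AS.2 fun P => ?_) ⟨y, hy, rfl⟩
    rw [mem_Alev_iff_val, (hφ P.1).1, neg_zero, exp_zero]
    have := hα P.1
    rwa [Finsupp.coe_zero, Pi.zero_apply, exp_zero] at this
  have hsurj : Function.Surjective ((LinearMap.ker Θ).liftQ Ψb hker) := by
    intro z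
    obtain ⟨ξ, rfl⟩ := Submodule.Quotient.mk_surjective _ z
    choose x hx using fun P : ↥S => density (k := k) (hφ P.1) (ξ P)
    refine ⟨Submodule.Quotient.mk x, ?_⟩
    rw [Submodule.liftQ_apply, hΨb, LinearMap.comp_apply, Submodule.mkQ_apply, eq_comm,
      Submodule.Quotient.eq]
    exact Submodule.mem_sup_left (mem_AS.2 fun P => hx P)
  have : FiniteDimensional k ((↥S → K) ⧸ LinearMap.ker Θ) :=
    Module.Finite.equiv Θ.quotKerEquivRange.symm
  exact Module.Finite.of_surjective _ hsurj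

/-- The sum of the local Tate residues over `S` vanishes. -/
theorem sum_ftr_thetaL_eq_zero [∀ P, FiniteDimensional k (F P)] (hK : IsFunctionField k K)
    (hφ : ∀ P, LocRes.IsExpansionAt P.1 (φ P)) {u v : K} (hu : u ∈ OS (k := k) S)
    (hv : v ∈ OS (k := k) S) :
    ∑ P : ↥S, ftr (thetaL k (φ P.1 u) (φ P.1 v)) = 0 := by
  have h0 := ftr_comm_eq_zero (isProjOnto_piS (F := F) (S := S))
    (nearStable_mulS (fun P => φ P.1 u)) (nearStable_mulS (fun P => φ P.1 v))
    (commute_mulS _ _) (BS φ S) (mulS_mem_BS φ hu) (mulS_mem_BS φ hv)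
    (finiteDimensional_inf φ hK hφ) (finiteDimensional_quot φ hK hφ)
  have hcomm : comm (piS F S) (mulS F S fun P => φ P.1 u) (mulS F S fun P => φ P.1 v) =
      LinearMap.pi fun P : ↥S => thetaL k (φ P.1 u) (φ P.1 v) ∘ₗ LinearMap.proj P :=
    LinearMap.ext fun x => funext fun P => rfl
  rw [hcomm, ftr_pi (fun P : ↥S => thetaL k (φ P.1 u) (φ P.1 v))
    (fun P => (ftr_thetaL _ _).1)] at h0
  exact h0

/-- **The residue theorem** over a finite set `S` of places containing the poles. -/
theorem sum_locRes_eq_zero [∀ P, FiniteDimensional k (F P)] (hK : IsFunctionField k K)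
    (hφ : ∀ P, LocRes.IsExpansionAt P.1 (φ P)) {u v : K} (hu : u ∈ OS (k := k) S)
    (hv : v ∈ OS (k := k) S) : ∑ P ∈ S, LocRes.locRes (φ P) u v = 0 := by
  rw [← Finset.sum_coe_sort S (fun P => LocRes.locRes (φ P) u v),
    ← sum_ftr_thetaL_eq_zero φ hK hφ hu hv]
  refine Finset.sum_congr rfl fun P _ => ?_
  rw [(ftr_thetaL _ _).2]
  rfl

theorem locRes_eq_zero_of_le_one {P : Place k K} (hφ : LocRes.IsExpansionAt P.1 (φ P)) {u v : K}
    (hu : P.1 u ≤ 1) (hv : P.1 v ≤ 1) : LocRes.locRes (φ P) u v = 0 := by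
  have h1 : φ P u ∈ Alev (F P) 0 := by
    rw [mem_Alev_iff_val, hφ.1, neg_zero, exp_zero]; exact hu
  have h2 : φ P v ∈ Alev (F P) 0 := by
    rw [mem_Alev_iff_val, hφ.1, neg_zero, exp_zero]; exact hv
  have h3 : LocRes.D (F P) (φ P v) ∈ Alev (F P) 0 := by
    intro i hi
    rw [LocRes.D_coeff]
    rcases lt_or_eq_of_le (show i + 1 ≤ 0 by omega) with h | h
    · rw [h2 _ h, smul_zero]
    · rw [h, zero_smul]
  have h4 := mul_mem_Alev h1 h3
  have h5 : (φ P u * LocRes.D (F P) (φ P v)).coeff (-1) = 0 := h4 (-1) (by omega)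
  unfold LocRes.locRes LocRes.resExp
  rw [LocRes.res_apply, h5, map_zero]

end Global

end Groth.Agent.H27.Tate
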