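import Groth.Agent.H27.Expn
import Groth.Prelude.Def_LocRes

/-!
# Existence of Laurent expansions at the places of a function field over an algebraically closed
field
-/

set_option autoImplicit false

namespace Groth.Agent.H27.ExistsExp

open FunFld WithZero Groth.Agent.H55 Groth.Agent.H27.Expn

variable {k K : Type*} [Field k] [IsAlgClosed k] [Field K] [Algebra k K]
  (hK : IsFunctionField k K) (P : Place k K) (t : K) (ht : P.1 t = exp (-1 : ℤ))

/-- The expansion homomorphism into Laurent series. -/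
noncomputable def EL : K →+* LaurentSeries k :=
  IsFractionRing.lift (A := P.O) (K := K)
    (g := (HahnSeries.ofPowerSeries ℤ k).comp (E0 hK P t ht))
    (HahnSeries.ofPowerSeries_injective.comp (E0_injective hK P t ht))

theorem EL_algebraMap (y : P.O) :
    EL hK P t ht (algebraMap P.O K y) = HahnSeries.ofPowerSeries ℤ k (E0 hK P t ht y) :=
  IsFractionRing.lift_algebraMap _ y

theorem EL_of_int {y : K} (hy : P.1 y ≤ 1) :
    EL hK P t ht y = HahnSeries.ofPowerSeries ℤ k (Efun P t y) :=
  EL_algebraMap hK P t ht ⟨y, (mem_O P).2 hy⟩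

include ht in
theorem Efun_algebraMap (c : k) : Efun P t (algebraMap k K c) = PowerSeries.C c := by
  ext n
  rw [coeff_Efun, PowerSeries.coeff_C]
  exact dig_algebraMap ht c n

theorem coeff_EL_of_int {y : K} (hy : P.1 y ≤ 1) (n : ℕ) :
    (EL hK P t ht y).coeff (n : ℤ) = dig P t n y := by
  rw [EL_of_int hK P t ht hy]
  have := PowerSeries.coeff_coe (R := k) (Efun P t y) (n : ℤ)
  rw [if_neg (by omega), Int.natAbs_natCast, coeff_Efun] at this
  exact this

theorem coeff_EL_of_int_neg {y : K} (hy : P.1 y ≤ 1) {i : ℤ} (hi : i < 0) :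
    (EL hK P t ht y).coeff i = 0 := by
  rw [EL_of_int hK P t ht hy]
  have := PowerSeries.coeff_coe (R := k) (Efun P t y) i
  rw [if_pos hi] at this
  exact this

theorem val_EL_le_iff {y : K} (hy : P.1 y ≤ 1) (N : ℕ) :
    Valued.v (EL hK P t ht y) ≤ exp (-(N : ℤ)) ↔ P.1 y ≤ exp (-(N : ℤ)) := by
  rw [LaurentSeries.valuation_le_iff_coeff_lt_eq_zero]
  constructor
  · intro h
    refine val_le_of_dig_eq_zero hK ht hy (fun n hn => ?_)
    rw [← coeff_EL_of_int hK P t ht hy]
    exact h n (by exact_mod_cast hn)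
  · intro h i hi
    rcases lt_or_ge i 0 with h0 | h0
    · exact coeff_EL_of_int_neg hK P t ht hy h0
    · lift i to ℕ using h0
      rw [coeff_EL_of_int hK P t ht hy]
      exact dig_eq_zero_of_val_le ht h i (by exact_mod_cast hi)

theorem val_EL_of_int {y : K} (hy : P.1 y ≤ 1) : Valued.v (EL hK P t ht y) = P.1 y := by
  by_cases h0 : y = 0
  · rw [h0, map_zero, map_zero, map_zero]
  have hord : 0 ≤ P.ord y := (pl_val_le_one_iff P h0).1 hy
  obtain ⟨m, hm⟩ := Int.eq_ofNat_of_zero_le hord
  have hv : P.1 y = exp (-(m : ℤ)) := by rw [pl_val_eq_exp_neg_ord P h0, hm]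
  have h1 : Valued.v (EL hK P t ht y) ≤ exp (-(m : ℤ)) :=
    (val_EL_le_iff hK P t ht hy m).2 hv.le
  have h2 : ¬ Valued.v (EL hK P t ht y) ≤ exp (-((m + 1 : ℕ) : ℤ)) := by
    intro h
    have := (val_EL_le_iff hK P t ht hy (m + 1)).1 h
    rw [hv, exp_le_exp] at this
    push_cast at this
    omega
  rw [hv]
  have hne : Valued.v (EL hK P t ht y) ≠ 0 := by
    intro h
    apply h2
    rw [h]
    exact zero_le
  rw [← exp_log hne] at h1 h2 ⊢
  rw [exp_le_exp] at h1 h2
  congr 1
  push_cast at h2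
  omega

theorem val_EL (y : K) : Valued.v (EL hK P t ht y) = P.1 y := by
  by_cases hy : P.1 y ≤ 1
  · exact val_EL_of_int hK P t ht hy
  · push Not at hy
    have hy0 : y ≠ 0 := by
      rintro rfl
      rw [map_zero] at hy
      exact absurd hy (by simp)
    have hzi : P.1 y⁻¹ ≤ 1 := by
      rw [map_inv₀]
      exact (inv_lt_one_of_one_lt₀ hy).le
    have := val_EL_of_int hK P t ht hzi
    rw [map_inv₀, map_inv₀, map_inv₀] at this
    exact inv_injective this

/-- The expansion as an algebra homomorphism. -/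
noncomputable def ELalg : K →ₐ[k] LaurentSeries k where
  toRingHom := EL hK P t ht
  commutes' c := by
    show EL hK P t ht (algebraMap k K c) = algebraMap k (LaurentSeries k) c
    rw [EL_of_int hK P t ht (P.2.1 c), Efun_algebraMap P t ht]
    rfl

theorem exists_expansion (hK : IsFunctionField k K) (P : Place k K) :
    ∃ φ : K →ₐ[k] LaurentSeries k, LocRes.IsExpansionAt P.1 φ := by
  obtain ⟨t, ht⟩ := P.2.2 (exp (-1 : ℤ))
  refine ⟨ELalg hK P t ht, fun f => val_EL hK P t ht f, fun a => ⟨algebraMap k K a, P.2.1 a, ?_⟩,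
    ⟨t, ht⟩⟩
  show (EL hK P t ht (algebraMap k K a)).coeff 0 = a
  have := coeff_EL_of_int hK P t ht (P.2.1 a) 0
  rw [Nat.cast_zero] at this
  rw [this, dig_algebraMap ht a 0, if_pos rfl]

end Groth.Agent.H27.ExistsExp
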