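import Groth.Agent.H27.Tate.GenCan

/-!
# The Weil differential attached to `u dv`: version assuming only `dim_K Ω_{K/k} = 1`
(instead of geometricity), same proofs as in `GenCan`.
-/

set_option autoImplicit false

namespace Groth.Agent.H27.GenCanFr

open FunFld WithZero HahnSeries Groth.Agent.H55 Groth.Agent.H27.Tate Function Groth.Agent.H27.GenCan

universe u v w

variable {k : Type u} {K : Type v} [Field k] [Field K] [Algebra k K]

open scoped Classical

variable (hK : IsFunctionField k K) (hfr : Module.finrank K (Ω[K⁄k]) = 1)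
  {F : Place k K → Type w} [∀ P, Field (F P)] [∀ P, Algebra k (F P)]
  [∀ P, FiniteDimensional k (F P)]
  (φ : ∀ P, K →ₐ[k] LaurentSeries (F P)) (hφ : ∀ P, LocRes.IsExpansionAt P.1 (φ P))
  {u v : K} (hu : u ≠ 0) (hv : KaehlerDifferential.D k K v ≠ 0)

include hfr hu hv in
theorem omegaF_mem_WD (E : Divisor k K) (hE : ∀ P, E P ≤ LocRes.ordDiff (φ P) u v) :
    omegaF hK φ hφ u v ∈ WD E := by
  rw [WD, Submodule.mem_dualAnnihilator]
  rintro ⟨a, ha⟩ hmem
  obtain ⟨α, hα, z, ⟨y, rfl⟩, hsum⟩ := Submodule.mem_sup.1 hmem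
  have h1 : α ∈ adele k K := AD_le_adele E hα
  have h2 : diag k K y ∈ adele k K := Kd_le_adele hK ⟨y, rfl⟩
  have e : (⟨a, ha⟩ : adele k K) = ⟨α, h1⟩ + ⟨diag k K y, h2⟩ := Subtype.ext hsum.symm
  have e1 : omegaF hK φ hφ u v ⟨α, h1⟩ = 0 := by
    rw [omegaF_apply]
    refine finsum_eq_zero_of_forall_eq_zero fun P => ?_
    rw [resLF_apply]
    exact locRes_eq_zero (φ P) (hφ P) hfr hu hv ((hα P).trans (exp_le_exp.2 (hE P)))
  have e2 : omegaF hK φ hφ u v ⟨diag k K y, h2⟩ = 0 := by
    rw [omegaF_apply]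
    have := (Groth.Agent.S12579.result k K hK F φ hφ (y * u) v).2
    rw [← this]
    refine finsum_congr fun P => ?_
    rw [resLF_apply]
    rfl
  rw [e, map_add, e1, e2, add_zero]


include hfr hu hv in
/-- If `ω ∈ WD E` then `E ≤ ord (u dv)` pointwise. -/
theorem le_ordDiff_of_mem_WD (E : Divisor k K) (hE : omegaF hK φ hφ u v ∈ WD E) (P : Place k K) :
    E P ≤ LocRes.ordDiff (φ P) u v := by
  by_contra hP
  push Not at hP
  obtain ⟨x, hx1, hx2⟩ := exists_locRes_ne_zero (φ P) (hφ P) hfr hu hv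
  have hmem : (Pi.single P x : Place k K → K) ∈ AD E :=
    single_mem_AD E P (hx1.trans (exp_le_exp.2 (by omega)))
  have hadele : (Pi.single P x : Place k K → K) ∈ adele k K := AD_le_adele E hmem
  rw [WD, Submodule.mem_dualAnnihilator] at hE
  have h0 := hE ⟨Pi.single P x, hadele⟩ (Submodule.mem_sup_left hmem)
  rw [omegaF_single, resLF_apply] at h0
  exact hx2 h0


include hfr hu hv in
/-- The Weil differential of `u dv`, its divisor and all that. -/
theorem main :
    omegaF hK φ hφ u v ≠ 0 ∧ IsWeil (omegaF hK φ hφ u v) ∧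
    ∃ C : Divisor k K, (∀ P, C P = LocRes.ordDiff (φ P) u v) ∧ IsDivOf (omegaF hK φ hφ u v) C := by
  -- a lower bound divisor
  obtain ⟨T, hT⟩ : ∃ T : Finset (Place k K), T =
      ((poles_finite hK u).union (poles_finite hK v)).toFinset := ⟨_, rfl⟩
  have hTo : ∀ P, P ∉ T → 0 ≤ LocRes.ordDiff (φ P) u v := by
    intro P hP
    rw [hT, Set.Finite.mem_toFinset, Set.mem_union, not_or] at hP
    exact ordDiff_nonneg_of_int φ hφ (not_lt.1 hP.1) (not_lt.1 hP.2)
      (vDiff_ne_zero (φ P) (hφ P) hfr hu hv)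
  let D : Divisor k K := Finsupp.onFinset T (fun P => min (LocRes.ordDiff (φ P) u v) 0)
    (fun P hP => by
      by_contra hPT
      exact hP (min_eq_right (hTo P hPT)))
  have hD : ∀ P, D P ≤ LocRes.ordDiff (φ P) u v := fun P => min_le_left _ _
  have hweil : IsWeil (omegaF hK φ hφ u v) := ⟨D, omegaF_mem_WD hK hfr φ hφ hu hv D hD⟩
  have hne : omegaF hK φ hφ u v ≠ 0 := by
    intro h0
    obtain ⟨P⟩ := exists_place hK
    have := le_ordDiff_of_mem_WD hK hfr φ hφ hu hv
      (Finsupp.single P (LocRes.ordDiff (φ P) u v + 1)) (by rw [h0]; exact Submodule.zero_mem _) P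
    rw [Finsupp.single_eq_same] at this
    omega
  obtain ⟨C, hC⟩ := exists_isDivOf hK _ hweil hne
  have hCo : ∀ P, C P = LocRes.ordDiff (φ P) u v := by
    intro P
    apply le_antisymm
    · exact le_ordDiff_of_mem_WD hK hfr φ hφ hu hv C ((hC C).2 le_rfl) P
    · -- raise `D` at `P`
      let E : Divisor k K := D + Finsupp.single P (LocRes.ordDiff (φ P) u v - D P)
      have hE : ∀ Q, E Q ≤ LocRes.ordDiff (φ Q) u v := by
        intro Q
        show (D + Finsupp.single P (LocRes.ordDiff (φ P) u v - D P)) Q ≤ _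
        rw [Finsupp.add_apply]
        by_cases hQ : Q = P
        · subst hQ
          rw [Finsupp.single_eq_same]
          omega
        · rw [Finsupp.single_eq_of_ne hQ, add_zero]
          exact hD Q
      have h1 := (hC E).1 (omegaF_mem_WD hK hfr φ hφ hu hv E hE) P
      have h2 : E P = LocRes.ordDiff (φ P) u v := by
        show (D + Finsupp.single P (LocRes.ordDiff (φ P) u v - D P)) P = _
        rw [Finsupp.add_apply, Finsupp.single_eq_same]
        omega
      omega
  exact ⟨hne, hweil, C, hCo, hC⟩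


end Groth.Agent.H27.GenCanFr
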