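import Groth.Agent.H27.DivDiff
import Groth.Agent.H27.Tate.Global
import Groth.Agent.S12579
import Groth.Agent.H55.FFRR

/-!
# The divisor of a differential `ds` is canonical (algebraically closed constants)
-/

set_option autoImplicit false

namespace Groth.Agent.H27.CanDS

open FunFld WithZero HahnSeries Groth.Agent.H55 Groth.Agent.H27.Tate Groth.Agent.H27.DivDiff
open Function

universe u v

variable {k : Type u} {K : Type v} [Field k] [Field K] [Algebra k K]

/-- The local residue pairing against `ds`, as a linear functional. -/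
noncomputable def resL (φ : K →ₐ[k] LaurentSeries k) (s : K) : K →ₗ[k] k :=
  cf k (-1) ∘ₗ mulL k (LocRes.D k (φ s)) ∘ₗ expL φ

theorem resL_apply (φ : K →ₐ[k] LaurentSeries k) (s x : K) :
    resL φ s x = LocRes.locRes φ x s := by
  unfold LocRes.locRes LocRes.resExp
  rw [Algebra.trace_self_apply, LocRes.res_apply, mul_comm]
  rfl

variable [IsAlgClosed k]

section

variable (hK : IsFunctionField k K) {s : K} (hds : KaehlerDifferential.D k K s ≠ 0)
  (Φ : Place k K → (K →ₐ[k] LaurentSeries k)) (hΦ : ∀ P : Place k K, LocRes.IsExpansionAt P.1 (Φ P))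

include hK hds hΦ

theorem val_D (Q : Place k K) :
    Valued.v (LocRes.D k (Φ Q s)) = exp (-(divDiff Φ 1 s Q)) := by
  have h0 := D_expansion_ne_zero hK hds (Φ Q) Q (hΦ Q)
  rw [divDiff_apply' hK hds Φ hΦ one_ne_zero, pl_ord_one, zero_add]
  unfold LocRes.ordDiff LocRes.vDiff
  rw [map_one, one_mul, neg_neg, exp_log ((Valuation.ne_zero_iff _).2 h0)]

theorem val_mul_D (Q : Place k K) (x : K) :
    Valued.v (Φ Q x * LocRes.D k (Φ Q s)) = Q.1 x * exp (-(divDiff Φ 1 s Q)) := by
  rw [map_mul, (hΦ Q).1, val_D hK hds Φ hΦ]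

theorem locRes_eq_zero {Q : Place k K} {x : K} (hx : Q.1 x ≤ exp (divDiff Φ 1 s Q)) :
    LocRes.locRes (Φ Q) x s = 0 := by
  have h1 : Valued.v (Φ Q x * LocRes.D k (Φ Q s)) ≤ exp (-(0 : ℤ)) := by
    rw [val_mul_D hK hds Φ hΦ]
    calc Q.1 x * exp (-(divDiff Φ 1 s Q)) ≤ exp (divDiff Φ 1 s Q) * exp (-(divDiff Φ 1 s Q)) :=
          mul_le_mul' hx le_rfl
      _ = exp (-(0 : ℤ)) := by rw [← exp_add]; simp
  have h2 := (LaurentSeries.valuation_le_iff_coeff_lt_eq_zero k).1 h1 (-1) (by norm_num)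
  unfold LocRes.locRes LocRes.resExp
  rw [LocRes.res_apply, h2, map_zero]

theorem exists_locRes_ne_zero (Q : Place k K) :
    ∃ x : K, Q.1 x = exp (divDiff Φ 1 s Q + 1) ∧ LocRes.locRes (Φ Q) x s ≠ 0 := by
  obtain ⟨t, ht⟩ := (hΦ Q).2.2
  have ht0 : t ≠ 0 := by
    intro h0
    rw [h0, map_zero] at ht
    exact exp_ne_zero ht.symm
  refine ⟨t ^ (-(divDiff Φ 1 s Q + 1)), ?_, ?_⟩
  · rw [map_zpow₀, ht, ← exp_zsmul]
    congr 1
    simp
  · have hv : Q.1 (t ^ (-(divDiff Φ 1 s Q + 1))) = exp (divDiff Φ 1 s Q + 1) := by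
      rw [map_zpow₀, ht, ← exp_zsmul]
      congr 1
      simp
    have h1 : Valued.v (Φ Q (t ^ (-(divDiff Φ 1 s Q + 1))) * LocRes.D k (Φ Q s)) =
        exp (-(-1 : ℤ)) := by
      rw [val_mul_D hK hds Φ hΦ, hv, ← exp_add]
      congr 1
      ring
    unfold LocRes.locRes LocRes.resExp
    rw [Algebra.trace_self_apply, LocRes.res_apply]
    intro h0
    have h2 : Valued.v (Φ Q (t ^ (-(divDiff Φ 1 s Q + 1))) * LocRes.D k (Φ Q s)) ≤
        exp (-(0 : ℤ)) := by
      rw [LaurentSeries.valuation_le_iff_coeff_lt_eq_zero]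
      intro n hn
      rcases lt_or_eq_of_le (show n ≤ -1 by omega) with h | h
      · exact (LaurentSeries.valuation_le_iff_coeff_lt_eq_zero k).1 h1.le n h
      · rw [h]; exact h0
    rw [h1, exp_le_exp] at h2
    omega

theorem finite_support_resL (a : adele k K) :
    (support fun P : Place k K => resL (Φ P) s (a.1 P)).Finite := by
  have h1 := (mem_adele a.1).1 a.2
  refine (h1.union (divDiff Φ 1 s).support.finite_toSet).subset ?_
  intro P hP
  by_contra hcon
  rw [Set.mem_union, not_or, Finset.mem_coe, Finsupp.mem_support_iff, not_not] at hcon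
  have hc1 : P.1 (a.1 P) ≤ 1 := not_not.1 hcon.1
  apply hP
  show resL (Φ P) s (a.1 P) = 0
  rw [resL_apply]
  apply locRes_eq_zero hK hds Φ hΦ
  rw [hcon.2, exp_zero]
  exact hc1

/-- The Weil differential attached to `ds`: the sum of the local residues. -/
noncomputable def omega : Module.Dual k (adele k K) where
  toFun a := ∑ᶠ P : Place k K, resL (Φ P) s (a.1 P)
  map_add' a b := by
    rw [← finsum_add_distrib (finite_support_resL hK hds Φ hΦ a)
      (finite_support_resL hK hds Φ hΦ b)]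
    refine finsum_congr fun P => ?_
    rw [← map_add]
    rfl
  map_smul' c a := by
    rw [RingHom.id_apply, smul_finsum]
    refine finsum_congr fun P => ?_
    rw [← map_smul]
    rfl

theorem omega_apply (a : adele k K) :
    omega hK hds Φ hΦ a = ∑ᶠ P : Place k K, resL (Φ P) s (a.1 P) := rfl

theorem omega_diag (x : K) (h : diag k K x ∈ adele k K) :
    omega hK hds Φ hΦ ⟨diag k K x, h⟩ = 0 := by
  rw [omega_apply]
  have := (Groth.Agent.S12579.result k K hK (fun _ => k) Φ hΦ x s).2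
  rw [← this]
  refine finsum_congr fun P => ?_
  rw [resL_apply]
  rfl

theorem omega_AD {E : Divisor k K} (hE : E ≤ divDiff Φ 1 s) (α : Place k K → K) (hα : α ∈ AD E)
    (h : α ∈ adele k K) : omega hK hds Φ hΦ ⟨α, h⟩ = 0 := by
  rw [omega_apply]
  refine finsum_eq_zero_of_forall_eq_zero fun P => ?_
  rw [resL_apply]
  apply locRes_eq_zero hK hds Φ hΦ
  exact (hα P).trans (exp_le_exp.2 (hE P))

theorem isDivOf_omega : IsDivOf (omega hK hds Φ hΦ) (divDiff Φ 1 s) := by
  classical
  intro E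
  constructor
  · intro hω
    by_contra hE
    obtain ⟨P, hP⟩ : ∃ P, ¬ E P ≤ divDiff Φ 1 s P := by
      by_contra hcon
      push Not at hcon
      exact hE hcon
    push Not at hP
    obtain ⟨x, hx1, hx2⟩ := exists_locRes_ne_zero hK hds Φ hΦ P
    have hmem : (Pi.single P x : Place k K → K) ∈ AD E := by
      intro Q
      by_cases hQ : Q = P
      · subst hQ
        rw [Pi.single_eq_same, hx1, exp_le_exp]
        omega
      · rw [Pi.single_eq_of_ne hQ, map_zero]
        exact zero_le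
    have hadele : (Pi.single P x : Place k K → K) ∈ adele k K := AD_le_adele E hmem
    have h0 : omega hK hds Φ hΦ ⟨Pi.single P x, hadele⟩ = 0 := by
      rw [WD, Submodule.mem_dualAnnihilator] at hω
      exact hω _ (Submodule.mem_sup_left hmem)
    rw [omega_apply, finsum_eq_single _ P (fun Q hQ => by
      show resL (Φ Q) s ((Pi.single P x : Place k K → K) Q) = 0
      rw [Pi.single_eq_of_ne hQ, map_zero])] at h0
    apply hx2
    rw [← resL_apply]
    simpa using h0
  · intro hE
    rw [WD, Submodule.mem_dualAnnihilator]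
    rintro ⟨a, ha⟩ hmem
    obtain ⟨α, hα, z, ⟨y, rfl⟩, hsum⟩ := Submodule.mem_sup.1 hmem
    have h1 : α ∈ adele k K := AD_le_adele E hα
    have h2 : diag k K y ∈ adele k K := Kd_le_adele hK ⟨y, rfl⟩
    have e : (⟨a, ha⟩ : adele k K) = ⟨α, h1⟩ + ⟨diag k K y, h2⟩ := Subtype.ext hsum.symm
    rw [e, map_add, omega_AD hK hds Φ hΦ hE α hα h1, omega_diag hK hds Φ hΦ y h2, add_zero]

theorem omega_ne_zero : omega hK hds Φ hΦ ≠ 0 := by
  classical
  intro h0
  obtain ⟨P⟩ := exists_place hK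
  have h1 := (isDivOf_omega hK hds Φ hΦ (divDiff Φ 1 s + Finsupp.single P 1)).1 (by
    rw [h0]; exact Submodule.zero_mem _)
  have h2 := h1 P
  rw [Finsupp.add_apply, Finsupp.single_eq_same] at h2
  omega

/-- The divisor of `ds` is canonical. -/
theorem isCanonical_divDiff : IsCanonical k K (divDiff Φ 1 s) :=
  ⟨omega hK hds Φ hΦ, omega_ne_zero hK hds Φ hΦ, isDivOf_omega hK hds Φ hΦ⟩

theorem deg_divDiff : (divDiff Φ 1 s).deg = 2 * (genus k K : ℤ) - 2 :=
  (ell_canonical hK (isCanonical_divDiff hK hds Φ hΦ)).2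

end

end Groth.Agent.H27.CanDS
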