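import Mathlib.LinearAlgebra.Trace
import Mathlib.LinearAlgebra.PID
import Mathlib.LinearAlgebra.FiniteDimensional.Lemmas

/-!
# Traces of finite-potent endomorphisms (after Tate)

`ftr θ` is the trace of a finite-potent endomorphism `θ` of a vector space `V`: the trace of `θ`
on `θ^n V` for `n` large.
-/

set_option autoImplicit false

namespace Groth.Agent.H27.Tate

open LinearMap

variable {k : Type*} [Field k] {V : Type*} [AddCommGroup V] [Module k V]

theorem pow_stable (θ : Module.End k V) (n : ℕ) :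
    ∀ x ∈ range (θ ^ n), θ x ∈ range (θ ^ n) := by
  rintro _ ⟨y, rfl⟩
  refine ⟨θ y, ?_⟩
  rw [← Module.End.mul_apply, ← Module.End.mul_apply, ← pow_succ, ← pow_succ']

theorem pow_mem_of_stable (θ : Module.End k V) (W : Submodule k V) (hW : ∀ x ∈ W, θ x ∈ W)
    (n : ℕ) : ∀ x ∈ W, (θ ^ n) x ∈ W := by
  induction n with
  | zero => intro x hx; simpa using hx
  | succ n ih =>
    intro x hx
    rw [pow_succ, Module.End.mul_apply]
    exact ih _ (hW x hx)

theorem range_pow_le (θ : Module.End k V) {n j : ℕ} (h : n ≤ j) :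
    range (θ ^ j) ≤ range (θ ^ n) := by
  obtain ⟨d, rfl⟩ := Nat.exists_eq_add_of_le h
  rw [pow_add]
  rintro _ ⟨y, rfl⟩
  exact ⟨(θ ^ d) y, rfl⟩

/-- A finite-potent endomorphism. -/
def IsFP (θ : Module.End k V) : Prop := ∃ n, FiniteDimensional k (range (θ ^ n))

/-- The trace of `θ` on the image of `θ ^ n`. -/
noncomputable def ftrAt (θ : Module.End k V) (n : ℕ) : k :=
  trace k (range (θ ^ n)) (θ.restrict (pow_stable θ n))

open Classical in
/-- The trace of a finite-potent endomorphism (`0` if not finite-potent). -/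
noncomputable def ftr (θ : Module.End k V) : k :=
  if h : IsFP θ then ftrAt θ h.choose else 0

theorem trace_restrict_eq_of_le (θ : Module.End k V) (W' W : Submodule k V)
    [FiniteDimensional k W] (hle : W' ≤ W) (hW : ∀ x ∈ W, θ x ∈ W) (hW' : ∀ x ∈ W, θ x ∈ W') :
    trace k W (θ.restrict hW) = trace k W' (θ.restrict (fun x hx => hW' x (hle hx))) := by
  haveI : FiniteDimensional k W' := Submodule.finiteDimensional_of_le hle
  have hf : ∀ x, (θ.restrict hW) x ∈ W'.comap W.subtype := fun x => hW' x.1 x.2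
  have h1 := LinearMap.trace_restrict_eq_of_forall_mem (W'.comap W.subtype) (θ.restrict hW) hf
  rw [← h1, ← LinearMap.trace_conj' _ (Submodule.comapSubtypeEquivOfLe hle)]
  congr 1

theorem trace_restrict_eq_of_pow (θ : Module.End k V) (W₂ : Submodule k V)
    [FiniteDimensional k W₂] (h₂ : ∀ x ∈ W₂, θ x ∈ W₂) :
    ∀ (j : ℕ) (W₁ : Submodule k V) [FiniteDimensional k W₁] (_ : W₂ ≤ W₁)
      (h₁ : ∀ x ∈ W₁, θ x ∈ W₁) (_ : ∀ x ∈ W₁, (θ ^ j) x ∈ W₂),
      trace k W₁ (θ.restrict h₁) = trace k W₂ (θ.restrict h₂) := by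
  intro j
  induction j with
  | zero =>
    intro W₁ _ h12 h₁ hj
    have : W₁ = W₂ := le_antisymm (fun x hx => by simpa using hj x hx) h12
    subst this
    rfl
  | succ j ih =>
    intro W₁ _ h12 h₁ hj
    have hle' : W₂ ⊔ W₁.map θ ≤ W₁ := sup_le h12 (Submodule.map_le_iff_le_comap.2 h₁)
    haveI : FiniteDimensional k (W₂ ⊔ W₁.map θ : Submodule k V) :=
      Submodule.finiteDimensional_of_le hle'
    have hW' : ∀ x ∈ W₁, θ x ∈ W₂ ⊔ W₁.map θ :=
      fun x hx => Submodule.mem_sup_right (Submodule.mem_map_of_mem hx)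
    rw [trace_restrict_eq_of_le θ (W₂ ⊔ W₁.map θ) W₁ hle' h₁ hW']
    apply ih _ le_sup_left
    intro x hx
    obtain ⟨a, ha, y, hy, rfl⟩ := Submodule.mem_sup.1 hx
    obtain ⟨b, hb, rfl⟩ := hy
    rw [map_add]
    refine add_mem (pow_mem_of_stable θ W₂ h₂ j a ha) ?_
    rw [← Module.End.mul_apply, ← pow_succ]
    exact hj b hb

/-- The trace of a finite-potent endomorphism can be computed on any finite-dimensional stable
subspace containing the image of a power. -/
theorem ftr_eq_trace (θ : Module.End k V) (W : Submodule k V) [FiniteDimensional k W]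
    (hW : ∀ x ∈ W, θ x ∈ W) (m : ℕ) (hm : range (θ ^ m) ≤ W) :
    ftr θ = trace k W (θ.restrict hW) := by
  have h : IsFP θ := ⟨m, Submodule.finiteDimensional_of_le hm⟩
  unfold ftr
  rw [dif_pos h]
  have hfd := h.choose_spec
  generalize h.choose = n at hfd ⊢
  unfold ftrAt
  haveI : FiniteDimensional k (range (θ ^ n)) := hfd
  haveI : FiniteDimensional k (range (θ ^ (max m n))) :=
    Submodule.finiteDimensional_of_le (range_pow_le θ (le_max_right m n))
  have hj : ∀ (W₁ : Submodule k V), ∀ x ∈ W₁, (θ ^ (max m n)) x ∈ range (θ ^ (max m n)) :=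
    fun _ x _ => ⟨x, rfl⟩
  rw [trace_restrict_eq_of_pow θ (range (θ ^ (max m n))) (pow_stable θ _) (max m n)
      (range (θ ^ n)) (range_pow_le θ (le_max_right m n)) (pow_stable θ n) (hj _),
    trace_restrict_eq_of_pow θ (range (θ ^ (max m n))) (pow_stable θ _) (max m n)
      W ((range_pow_le θ (le_max_left m n)).trans hm) hW (hj _)]

theorem isFP_of_finiteDimensional_range_sq (θ : Module.End k V)
    (h : FiniteDimensional k (range (θ * θ))) : IsFP θ := ⟨2, by rwa [pow_two]⟩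

theorem ftr_eq_zero_of_mul_self (θ : Module.End k V) (h : θ * θ = 0) : ftr θ = 0 := by
  rw [ftr_eq_trace θ ⊥ (fun x hx => by rw [(Submodule.mem_bot k).1 hx, map_zero]; exact zero_mem _)
    2 (by rw [pow_two, h, LinearMap.range_zero])]
  have : θ.restrict (p := (⊥ : Submodule k V)) (q := ⊥)
      (fun x hx => by rw [(Submodule.mem_bot k).1 hx, map_zero]; exact zero_mem _) = 0 :=
    LinearMap.ext fun x => Subsingleton.elim _ _
  rw [this, map_zero]

theorem ftr_add (θ₁ θ₂ : Module.End k V) (h11 : FiniteDimensional k (range (θ₁ * θ₁)))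
    (h12 : FiniteDimensional k (range (θ₁ * θ₂))) (h21 : FiniteDimensional k (range (θ₂ * θ₁)))
    (h22 : FiniteDimensional k (range (θ₂ * θ₂))) : ftr (θ₁ + θ₂) = ftr θ₁ + ftr θ₂ := by
  obtain ⟨W₁, hW₁⟩ : ∃ W₁ : Submodule k V, W₁ = range (θ₁ * θ₁) ⊔ range (θ₁ * θ₂) ⊔
    range (θ₂ * θ₁) ⊔ range (θ₂ * θ₂) := ⟨_, rfl⟩
  haveI : FiniteDimensional k W₁ := by rw [hW₁]; infer_instance
  have p11 : ∀ x, θ₁ (θ₁ x) ∈ W₁ := fun x => by
    rw [hW₁]
    exact Submodule.mem_sup_left (Submodule.mem_sup_left (Submodule.mem_sup_left ⟨x, rfl⟩))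
  have p12 : ∀ x, θ₁ (θ₂ x) ∈ W₁ := fun x => by
    rw [hW₁]
    exact Submodule.mem_sup_left (Submodule.mem_sup_left (Submodule.mem_sup_right ⟨x, rfl⟩))
  have p21 : ∀ x, θ₂ (θ₁ x) ∈ W₁ := fun x => by
    rw [hW₁]
    exact Submodule.mem_sup_left (Submodule.mem_sup_right ⟨x, rfl⟩)
  have p22 : ∀ x, θ₂ (θ₂ x) ∈ W₁ := fun x => by
    rw [hW₁]
    exact Submodule.mem_sup_right ⟨x, rfl⟩
  obtain ⟨W, hWd⟩ : ∃ W : Submodule k V, W = W₁ ⊔ W₁.map θ₁ ⊔ W₁.map θ₂ := ⟨_, rfl⟩
  haveI : FiniteDimensional k W := by rw [hWd]; infer_instance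
  have hle : W₁ ≤ W := by rw [hWd]; exact le_sup_of_le_left le_sup_left
  have s1 : ∀ x ∈ W, θ₁ x ∈ W := by
    intro x hx
    rw [hWd] at hx
    obtain ⟨a, ha, c, hc, rfl⟩ := Submodule.mem_sup.1 hx
    obtain ⟨w, hw, b, hb, rfl⟩ := Submodule.mem_sup.1 ha
    obtain ⟨b', -, rfl⟩ := hb
    obtain ⟨c', -, rfl⟩ := hc
    rw [map_add, map_add]
    refine add_mem (add_mem ?_ (hle (p11 _))) (hle (p12 _))
    rw [hWd]
    exact Submodule.mem_sup_left (Submodule.mem_sup_right (Submodule.mem_map_of_mem hw))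
  have s2 : ∀ x ∈ W, θ₂ x ∈ W := by
    intro x hx
    rw [hWd] at hx
    obtain ⟨a, ha, c, hc, rfl⟩ := Submodule.mem_sup.1 hx
    obtain ⟨w, hw, b, hb, rfl⟩ := Submodule.mem_sup.1 ha
    obtain ⟨b', -, rfl⟩ := hb
    obtain ⟨c', -, rfl⟩ := hc
    rw [map_add, map_add]
    refine add_mem (add_mem ?_ (hle (p21 _))) (hle (p22 _))
    rw [hWd]
    exact Submodule.mem_sup_right (Submodule.mem_map_of_mem hw)
  have s12 : ∀ x ∈ W, (θ₁ + θ₂) x ∈ W := fun x hx => by
    rw [LinearMap.add_apply]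
    exact add_mem (s1 x hx) (s2 x hx)
  have r1 : range (θ₁ ^ 2) ≤ W := by
    rintro _ ⟨x, rfl⟩
    rw [pow_two]
    exact hle (p11 x)
  have r2 : range (θ₂ ^ 2) ≤ W := by
    rintro _ ⟨x, rfl⟩
    rw [pow_two]
    exact hle (p22 x)
  have r12 : range ((θ₁ + θ₂) ^ 2) ≤ W := by
    rintro _ ⟨x, rfl⟩
    rw [pow_two]
    simp only [Module.End.mul_apply, LinearMap.add_apply, map_add]
    exact hle (add_mem (add_mem (p11 x) (p21 x)) (add_mem (p12 x) (p22 x)))
  rw [ftr_eq_trace θ₁ W s1 2 r1, ftr_eq_trace θ₂ W s2 2 r2, ftr_eq_trace (θ₁ + θ₂) W s12 2 r12,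
    ← map_add]
  congr 1

theorem ftr_neg (θ : Module.End k V) (h : IsFP θ) : ftr (-θ) = -ftr θ := by
  obtain ⟨n, hn⟩ := h
  have s1 := pow_stable θ n
  have s2 : ∀ x ∈ range (θ ^ n), (-θ) x ∈ range (θ ^ n) := fun x hx => by
    rw [LinearMap.neg_apply]
    exact neg_mem (s1 x hx)
  have r2 : range ((-θ) ^ n) ≤ range (θ ^ n) := by
    rintro _ ⟨x, rfl⟩
    rw [neg_pow]
    rcases neg_one_pow_eq_or (Module.End k V) n with h1 | h1
    · rw [h1, one_mul]
      exact ⟨x, rfl⟩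
    · rw [h1, neg_one_mul, LinearMap.neg_apply]
      exact neg_mem ⟨x, rfl⟩
  rw [ftr_eq_trace θ _ s1 n le_rfl, ftr_eq_trace (-θ) _ s2 n r2, ← map_neg]
  congr 1

theorem isFP_neg (θ : Module.End k V) (h : IsFP θ) : IsFP (-θ) := by
  obtain ⟨n, hn⟩ := h
  refine ⟨n, Submodule.finiteDimensional_of_le (?_ : range ((-θ) ^ n) ≤ range (θ ^ n))⟩
  rintro _ ⟨x, rfl⟩
  rw [neg_pow]
  rcases neg_one_pow_eq_or (Module.End k V) n with h1 | h1
  · rw [h1, one_mul]
    exact ⟨x, rfl⟩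
  · rw [h1, neg_one_mul, LinearMap.neg_apply]
    exact neg_mem ⟨x, rfl⟩

/-- `Tr (XY) = Tr (YX)` for finite-potent `XY`. -/
theorem ftr_comm {V' : Type*} [AddCommGroup V'] [Module k V'] (X : V' →ₗ[k] V)
    (Y : V →ₗ[k] V') (h : IsFP (X ∘ₗ Y)) : ftr (X ∘ₗ Y) = ftr (Y ∘ₗ X) := by
  obtain ⟨n, hn⟩ := h
  have hid : ∀ (m : ℕ) (v' : V'), ((Y ∘ₗ X : Module.End k V') ^ (m + 1)) v' =
      Y (((X ∘ₗ Y : Module.End k V) ^ m) (X v')) := by
    intro m
    induction m with
    | zero => intro v'; simp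
    | succ m ih =>
      intro v'
      rw [pow_succ (Y ∘ₗ X : Module.End k V'), Module.End.mul_apply, ih,
        pow_succ (X ∘ₗ Y : Module.End k V), Module.End.mul_apply]
      rfl
  obtain ⟨W, hWd⟩ : ∃ W : Submodule k V, W = range ((X ∘ₗ Y : Module.End k V) ^ n) := ⟨_, rfl⟩
  haveI : FiniteDimensional k W := by rw [hWd]; exact hn
  have sW : ∀ x ∈ W, (X ∘ₗ Y : Module.End k V) x ∈ W := by
    rw [hWd]
    exact pow_stable _ n
  have sW' : ∀ y ∈ W.map Y, (Y ∘ₗ X : Module.End k V') y ∈ W.map Y := by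
    rintro _ ⟨w, hw, rfl⟩
    exact ⟨_, sW w hw, rfl⟩
  have rW' : range ((Y ∘ₗ X : Module.End k V') ^ (n + 1)) ≤ W.map Y := by
    rintro _ ⟨v', rfl⟩
    rw [hid]
    refine ⟨_, ?_, rfl⟩
    rw [hWd]
    exact ⟨_, rfl⟩
  have hY : ∀ w ∈ W, Y w ∈ W.map Y := fun w hw => ⟨w, hw, rfl⟩
  have hX : ∀ y ∈ W.map Y, X y ∈ W := by
    rintro _ ⟨w, hw, rfl⟩
    exact sW w hw
  rw [ftr_eq_trace _ W sW n (by rw [hWd]), ftr_eq_trace _ (W.map Y) sW' (n + 1) rW']
  have e1 : (X ∘ₗ Y : Module.End k V).restrict sW = (X.restrict hX) ∘ₗ (Y.restrict hY) := by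
    ext x
    rfl
  have e2 : (Y ∘ₗ X : Module.End k V').restrict sW' = (Y.restrict hY) ∘ₗ (X.restrict hX) := by
    ext x
    rfl
  rw [e1, e2]
  exact LinearMap.trace_comp_comm' _ _

theorem ftr_eq_trace_of_finiteDimensional [FiniteDimensional k V] (θ : Module.End k V) :
    ftr θ = trace k V θ := by
  rw [ftr_eq_trace θ ⊤ (fun _ _ => Submodule.mem_top) 0 le_top,
    ← LinearMap.trace_conj' _ (Submodule.topEquiv (R := k) (M := V))]
  congr 1

theorem range_add_le (θ₁ θ₂ : Module.End k V) : range (θ₁ + θ₂) ≤ range θ₁ ⊔ range θ₂ := by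
  rintro _ ⟨x, rfl⟩
  exact Submodule.add_mem_sup ⟨x, rfl⟩ ⟨x, rfl⟩

theorem finiteDimensional_range_mul_left (θ₁ θ₂ : Module.End k V)
    [h : FiniteDimensional k (range θ₁)] : FiniteDimensional k (range (θ₁ * θ₂)) :=
  Submodule.finiteDimensional_of_le (LinearMap.range_comp_le_range θ₂ θ₁)

theorem finiteDimensional_range_mul_right (θ₁ θ₂ : Module.End k V)
    [h : FiniteDimensional k (range θ₂)] : FiniteDimensional k (range (θ₁ * θ₂)) := by
  have : range (θ₁ * θ₂) = (range θ₂).map θ₁ := LinearMap.range_comp θ₂ θ₁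
  rw [this]
  infer_instance

theorem finiteDimensional_range_sum {ι : Type*} (s : Finset ι) (θ : ι → Module.End k V)
    (h : ∀ i ∈ s, FiniteDimensional k (range (θ i))) :
    FiniteDimensional k (range (∑ i ∈ s, θ i)) := by
  classical
  induction s using Finset.induction_on with
  | empty =>
    rw [Finset.sum_empty, LinearMap.range_zero]
    infer_instance
  | insert a s ha ih =>
    rw [Finset.sum_insert ha]
    haveI := h a (Finset.mem_insert_self a s)
    haveI := ih (fun i hi => h i (Finset.mem_insert_of_mem hi))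
    exact Submodule.finiteDimensional_of_le (range_add_le _ _)

theorem ftr_sum_of_finiteRank {ι : Type*} (s : Finset ι) (θ : ι → Module.End k V)
    (h : ∀ i ∈ s, FiniteDimensional k (range (θ i))) :
    ftr (∑ i ∈ s, θ i) = ∑ i ∈ s, ftr (θ i) := by
  classical
  induction s using Finset.induction_on with
  | empty =>
    simp only [Finset.sum_empty]
    exact ftr_eq_zero_of_mul_self 0 (mul_zero 0)
  | insert a s ha ih =>
    rw [Finset.sum_insert ha, Finset.sum_insert ha]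
    haveI := h a (Finset.mem_insert_self a s)
    haveI := finiteDimensional_range_sum s θ (fun i hi => h i (Finset.mem_insert_of_mem hi))
    rw [ftr_add _ _ (finiteDimensional_range_mul_left _ _) (finiteDimensional_range_mul_left _ _)
      (finiteDimensional_range_mul_left _ _) (finiteDimensional_range_mul_left _ _),
      ih (fun i hi => h i (Finset.mem_insert_of_mem hi))]

end Groth.Agent.H27.Tate
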