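import Groth.Agent.H27.Tate.SepPlace
import Groth.Agent.H27.Tate.Global
import Groth.Agent.S12579
import Groth.Agent.H55.FFRR

/-!
# The Weil differential attached to `u dv` over a general constant field (separable places)
-/

set_option autoImplicit false

namespace Groth.Agent.H27.GenCan

open FunFld WithZero HahnSeries Groth.Agent.H55 Groth.Agent.H27.Tate Function

universe u v w

variable {k : Type u} {K : Type v} [Field k] [Field K] [Algebra k K]

section Local

variable {F : Type w} [Field F] [Algebra k F] {w : Valuation K (WithZero (Multiplicative ℤ))}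
  (φ : K →ₐ[k] LaurentSeries F) (hφ : LocRes.IsExpansionAt w φ)

include hφ

/-- Approximation of a Laurent series by an element of `K` to any order. -/
theorem approx (ξ : LaurentSeries F) (N : ℤ) : ∃ y : K, ξ - φ y ∈ Alev k N := by
  obtain ⟨t, ht⟩ := hφ.2.2
  have hT : Valued.v (φ t) = exp (-1 : ℤ) := by rw [hφ.1, ht]
  have hT0 : φ t ≠ 0 := by
    intro h0
    rw [h0, map_zero] at hT
    exact exp_ne_zero hT.symm
  obtain ⟨y', hy'⟩ := density (k := k) hφ (ξ * (φ t ^ N)⁻¹)
  refine ⟨y' * t ^ N, ?_⟩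
  have h1 : φ t ^ N ∈ Alev k N := by
    rw [mem_Alev_iff_val, map_zpow₀, hT, ← exp_zsmul]
    apply le_of_eq
    congr 1
    simp
  have h2 := mul_mem_Alev hy' h1
  rw [zero_add] at h2
  have e : ξ - φ (y' * t ^ N) = (ξ * (φ t ^ N)⁻¹ - φ y') * φ t ^ N := by
    rw [map_mul, map_zpow₀, sub_mul, inv_mul_cancel_right₀ (zpow_ne_zero N hT0)]
  rw [e]
  exact h2

theorem D_expansion_ne_zero (hfr : Module.finrank K (Ω[K⁄k]) = 1) {v : K}
    (hv : KaehlerDifferential.D k K v ≠ 0) : LocRes.D F (φ v) ≠ 0 := by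
  obtain ⟨t, ht⟩ := hφ.2.2
  obtain ⟨g, hg'⟩ := (finrank_eq_one_iff_of_nonzero' _ hv).1 hfr (KaehlerDifferential.D k K t)
  have hc := Groth.Agent.H27.DiffExp.chain_rule φ t v g hg'.symm
  have hT : Valued.v (φ t) = exp (-(1 : ℤ)) := by rw [hφ.1, ht]
  have hDt : Valued.v (LocRes.D F (φ t)) = 1 :=
    (Groth.Agent.H27.DiffExp.valued_D_of_val (e := 1) hT).2.1 (by simp) |>.trans (by simp)
  intro h0
  rw [h0, mul_zero] at hc
  rw [hc, map_zero] at hDt
  exact zero_ne_one hDt

theorem vDiff_ne_zero (hfr : Module.finrank K (Ω[K⁄k]) = 1) {u v : K} (hu : u ≠ 0)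
    (hv : KaehlerDifferential.D k K v ≠ 0) : LocRes.vDiff φ u v ≠ 0 := by
  unfold LocRes.vDiff
  rw [Valuation.ne_zero_iff]
  exact mul_ne_zero ((map_ne_zero_iff φ φ.injective).2 hu) (D_expansion_ne_zero φ hφ hfr hv)

theorem vDiff_eq (hfr : Module.finrank K (Ω[K⁄k]) = 1) {u v : K} (hu : u ≠ 0)
    (hv : KaehlerDifferential.D k K v ≠ 0) :
    LocRes.vDiff φ u v = exp (-(LocRes.ordDiff φ u v)) := by
  unfold LocRes.ordDiff
  rw [neg_neg, exp_log (vDiff_ne_zero φ hφ hfr hu hv)]

omit hφ in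
theorem locRes_mul (x u v : K) :
    LocRes.locRes φ (x * u) v =
      Algebra.trace k F ((φ x * (φ u * LocRes.D F (φ v))).coeff (-1)) := by
  unfold LocRes.locRes LocRes.resExp
  rw [LocRes.res_apply, map_mul, mul_assoc]

theorem locRes_eq_zero (hfr : Module.finrank K (Ω[K⁄k]) = 1) {u v : K} (hu : u ≠ 0)
    (hv : KaehlerDifferential.D k K v ≠ 0) {x : K} (hx : w x ≤ exp (LocRes.ordDiff φ u v)) :
    LocRes.locRes φ (x * u) v = 0 := by
  have h1 : Valued.v (φ x * (φ u * LocRes.D F (φ v))) ≤ exp (-(0 : ℤ)) := by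
    rw [map_mul, hφ.1]
    have := vDiff_eq φ hφ hfr hu hv
    unfold LocRes.vDiff at this
    rw [this]
    calc w x * exp (-(LocRes.ordDiff φ u v))
        ≤ exp (LocRes.ordDiff φ u v) * exp (-(LocRes.ordDiff φ u v)) := mul_le_mul' hx le_rfl
      _ = exp (-(0 : ℤ)) := by rw [← exp_add]; simp
  rw [locRes_mul, (LaurentSeries.valuation_le_iff_coeff_lt_eq_zero F).1 h1 (-1) (by norm_num),
    map_zero]

theorem exists_locRes_ne_zero [FiniteDimensional k F] (hfr : Module.finrank K (Ω[K⁄k]) = 1)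
    {u v : K} (hu : u ≠ 0) (hv : KaehlerDifferential.D k K v ≠ 0) :
    ∃ x : K, w x ≤ exp (LocRes.ordDiff φ u v + 1) ∧ LocRes.locRes φ (x * u) v ≠ 0 := by
  have := Groth.Agent.H27.SepPlace.isSeparable_of_isExpansionAt hfr φ hφ
  obtain ⟨a, ha⟩ := Algebra.trace_surjective k F 1
  obtain ⟨W, hW⟩ : ∃ W : LaurentSeries F, W = φ u * LocRes.D F (φ v) := ⟨_, rfl⟩
  obtain ⟨m, hm⟩ : ∃ m : ℤ, m = LocRes.ordDiff φ u v := ⟨_, rfl⟩
  have hvW : Valued.v W = exp (-m) := by
    have := vDiff_eq φ hφ hfr hu hv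
    unfold LocRes.vDiff at this
    rw [hW, hm, this]
  have hWm : W ∈ Alev k m := mem_Alev_iff_val.2 hvW.le
  have hc : W.coeff m ≠ 0 := by
    intro h0
    have : Valued.v W ≤ exp (-(m + 1)) := by
      rw [LaurentSeries.valuation_le_iff_coeff_lt_eq_zero]
      intro i hi
      rcases lt_or_eq_of_le (show i ≤ m by omega) with h | h
      · exact hWm i h
      · rw [h]; exact h0
    rw [hvW, exp_le_exp] at this
    omega
  obtain ⟨ξ, hξ⟩ : ∃ ξ : LaurentSeries F, ξ = single (-m - 1) (a / W.coeff m) := ⟨_, rfl⟩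
  have hξmem : ξ ∈ Alev k (-m - 1) := by
    intro i hi
    rw [hξ, coeff_single, if_neg (by omega)]
  obtain ⟨y, hy⟩ := approx (k := k) φ hφ ξ (-m)
  have hφy : φ y ∈ Alev k (-m - 1) := by
    have : φ y = ξ - (ξ - φ y) := by ring
    rw [this]
    exact sub_mem hξmem (Alev_mono (by omega) hy)
  refine ⟨y, ?_, ?_⟩
  · rw [← hφ.1, ← hm]
    have := mem_Alev_iff_val.1 hφy
    rwa [show -(-m - 1) = m + 1 by ring] at this
  · rw [locRes_mul, ← hW]
    have e : φ y * W = ξ * W - (ξ - φ y) * W := by ring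
    have h0 : ((ξ - φ y) * W).coeff (-1) = 0 := by
      have := mul_mem_Alev hy hWm
      exact this (-1) (by omega)
    rw [e, coeff_sub, h0, sub_zero, hξ, coeff_single_mul,
      show (-1 : ℤ) - (-m - 1) = m by ring, div_mul_cancel₀ _ hc, ha]
    exact one_ne_zero

end Local

section Global

open scoped Classical

variable (hK : IsFunctionField k K) (hg : IsGeometric k K)
  {F : Place k K → Type w} [∀ P, Field (F P)] [∀ P, Algebra k (F P)]
  [∀ P, FiniteDimensional k (F P)]
  (φ : ∀ P, K →ₐ[k] LaurentSeries (F P)) (hφ : ∀ P, LocRes.IsExpansionAt P.1 (φ P))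
  {u v : K} (hu : u ≠ 0) (hv : KaehlerDifferential.D k K v ≠ 0)

/-- The local residue pairing against `u dv` as a linear functional. -/
noncomputable def resLF (u v : K) (P : Place k K) : K →ₗ[k] k :=
  Algebra.trace k (F P) ∘ₗ cf k (-1) ∘ₗ
    mulL k (φ P u * LocRes.D (F P) (φ P v)) ∘ₗ expL (φ P)

omit [∀ P, FiniteDimensional k (F P)] in
theorem resLF_apply (u v : K) (P : Place k K) (x : K) :
    resLF φ u v P x = LocRes.locRes (φ P) (x * u) v := by
  rw [locRes_mul, mul_comm (φ P x)]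
  rfl

omit [∀ P, FiniteDimensional k (F P)] in
include hφ in
theorem locRes_eq_zero_of_int {P : Place k K} {x : K} (hx : P.1 x ≤ 1) (hu' : P.1 u ≤ 1)
    (hv' : P.1 v ≤ 1) : LocRes.locRes (φ P) (x * u) v = 0 :=
  locRes_eq_zero_of_le_one φ (hφ P) (by
    rw [map_mul]
    exact mul_le_one' hx hu') hv'

omit [∀ P, FiniteDimensional k (F P)] in
include hK hφ in
theorem finite_support_resLF (u v : K) (a : adele k K) :
    (support fun P : Place k K => resLF φ u v P (a.1 P)).Finite := by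
  have h1 := (mem_adele a.1).1 a.2
  refine (h1.union ((poles_finite hK u).union (poles_finite hK v))).subset ?_
  intro P hP
  by_contra hcon
  simp only [Set.mem_union, Set.mem_ofPred_eq, not_or, not_not, not_lt] at hcon
  apply hP
  show resLF φ u v P (a.1 P) = 0
  rw [resLF_apply]
  exact locRes_eq_zero_of_int φ hφ hcon.1 hcon.2.1 hcon.2.2

/-- The Weil differential attached to `u dv`. -/
noncomputable def omegaF (u v : K) : Module.Dual k (adele k K) where
  toFun a := ∑ᶠ P : Place k K, resLF φ u v P (a.1 P)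
  map_add' a b := by
    rw [← finsum_add_distrib (finite_support_resLF hK φ hφ u v a)
      (finite_support_resLF hK φ hφ u v b)]
    refine finsum_congr fun P => ?_
    rw [← map_add]
    rfl
  map_smul' c a := by
    rw [RingHom.id_apply, smul_finsum]
    refine finsum_congr fun P => ?_
    rw [← map_smul]
    rfl

omit [∀ P, FiniteDimensional k (F P)] in
theorem omegaF_apply (u v : K) (a : adele k K) :
    omegaF hK φ hφ u v a = ∑ᶠ P : Place k K, resLF φ u v P (a.1 P) := rfl

include hg hu hv in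
theorem omegaF_mem_WD (E : Divisor k K) (hE : ∀ P, E P ≤ LocRes.ordDiff (φ P) u v) :
    omegaF hK φ hφ u v ∈ WD E := by
  have hfr := finrank_kaehler hK hg
  rw [WD, Submodule.mem_dualAnnihilator]
  rintro ⟨a, ha⟩ hmem
  obtain ⟨α, hα, z, ⟨y, rfl⟩, hsum⟩ := Submodule.mem_sup.1 hmem
  have h1 : α ∈ adele k K := AD_le_adele E hα
  have h2 : diag k K y ∈ adele k K := Kd_le_adele hK ⟨y, rfl⟩
  have e : (⟨a, ha⟩ : adele k K) = ⟨α, h1⟩ + ⟨diag k K y, h2⟩ := Subtype.ext hsum.symm
  have e1 : omegaF hK φ hφ u v ⟨α, h1⟩ = 0 := by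
    rw [omegaF_apply]
    refine finsum_eq_zero_of_forall_eq_zero fun P => ?_
    rw [resLF_apply]
    exact locRes_eq_zero (φ P) (hφ P) hfr hu hv ((hα P).trans (exp_le_exp.2 (hE P)))
  have e2 : omegaF hK φ hφ u v ⟨diag k K y, h2⟩ = 0 := by
    rw [omegaF_apply]
    have := (Groth.Agent.S12579.result k K hK F φ hφ (y * u) v).2
    rw [← this]
    refine finsum_congr fun P => ?_
    rw [resLF_apply]
    rfl
  rw [e, map_add, e1, e2, add_zero]

omit [∀ P, FiniteDimensional k (F P)] in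
theorem omegaF_single (u v : K) (P : Place k K) (x : K)
    (h : (Pi.single P x : Place k K → K) ∈ adele k K) :
    omegaF hK φ hφ u v ⟨Pi.single P x, h⟩ = resLF φ u v P x := by
  rw [omegaF_apply, finsum_eq_single _ P (fun Q hQ => by
    show resLF φ u v Q ((Pi.single P x : Place k K → K) Q) = 0
    rw [Pi.single_eq_of_ne hQ, map_zero])]
  show resLF φ u v P ((Pi.single P x : Place k K → K) P) = _
  rw [Pi.single_eq_same]

omit [∀ P, FiniteDimensional k (F P)] in
theorem single_mem_AD (E : Divisor k K) (P : Place k K) {x : K} (hx : P.1 x ≤ exp (E P)) :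
    (Pi.single P x : Place k K → K) ∈ AD E := by
  intro Q
  by_cases hQ : Q = P
  · subst hQ
    rw [Pi.single_eq_same]
    exact hx
  · rw [Pi.single_eq_of_ne hQ, map_zero]
    exact zero_le

include hg hu hv in
/-- If `ω ∈ WD E` then `E ≤ ord (u dv)` pointwise. -/
theorem le_ordDiff_of_mem_WD (E : Divisor k K) (hE : omegaF hK φ hφ u v ∈ WD E) (P : Place k K) :
    E P ≤ LocRes.ordDiff (φ P) u v := by
  have hfr := finrank_kaehler hK hg
  by_contra hP
  push Not at hP
  obtain ⟨x, hx1, hx2⟩ := exists_locRes_ne_zero (φ P) (hφ P) hfr hu hv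
  have hmem : (Pi.single P x : Place k K → K) ∈ AD E :=
    single_mem_AD E P (hx1.trans (exp_le_exp.2 (by omega)))
  have hadele : (Pi.single P x : Place k K → K) ∈ adele k K := AD_le_adele E hmem
  rw [WD, Submodule.mem_dualAnnihilator] at hE
  have h0 := hE ⟨Pi.single P x, hadele⟩ (Submodule.mem_sup_left hmem)
  rw [omegaF_single, resLF_apply] at h0
  exact hx2 h0

omit [∀ P, FiniteDimensional k (F P)] in
include hφ in
theorem ordDiff_nonneg_of_int {P : Place k K} (hu' : P.1 u ≤ 1) (hv' : P.1 v ≤ 1)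
    (h0 : LocRes.vDiff (φ P) u v ≠ 0) : 0 ≤ LocRes.ordDiff (φ P) u v := by
  have h1 : φ P u ∈ Alev (F P) 0 := by
    rw [mem_Alev_iff_val, (hφ P).1, neg_zero, exp_zero]; exact hu'
  have h2 : φ P v ∈ Alev (F P) 0 := by
    rw [mem_Alev_iff_val, (hφ P).1, neg_zero, exp_zero]; exact hv'
  have h3 := mul_mem_Alev h1 (Groth.Agent.H27.SepPlace.D_mem_Alev h2)
  rw [add_zero, mem_Alev_iff_val, neg_zero, exp_zero] at h3
  unfold LocRes.ordDiff
  have : log (LocRes.vDiff (φ P) u v) ≤ 0 := by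
    rw [log_le_iff_le_exp h0, exp_zero]
    exact h3
  omega

include hg hu hv in
/-- The Weil differential of `u dv`, its divisor and all that. -/
theorem main :
    omegaF hK φ hφ u v ≠ 0 ∧ IsWeil (omegaF hK φ hφ u v) ∧
    ∃ C : Divisor k K, (∀ P, C P = LocRes.ordDiff (φ P) u v) ∧ IsDivOf (omegaF hK φ hφ u v) C := by
  have hfr := finrank_kaehler hK hg
  -- a lower bound divisor
  obtain ⟨T, hT⟩ : ∃ T : Finset (Place k K), T =
      ((poles_finite hK u).union (poles_finite hK v)).toFinset := ⟨_, rfl⟩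
  have hTo : ∀ P, P ∉ T → 0 ≤ LocRes.ordDiff (φ P) u v := by
    intro P hP
    rw [hT, Set.Finite.mem_toFinset, Set.mem_union, not_or] at hP
    exact ordDiff_nonneg_of_int φ hφ (not_lt.1 hP.1) (not_lt.1 hP.2)
      (vDiff_ne_zero (φ P) (hφ P) hfr hu hv)
  let D : Divisor k K := Finsupp.onFinset T (fun P => min (LocRes.ordDiff (φ P) u v) 0)
    (fun P hP => by
      by_contra hPT
      exact hP (min_eq_right (hTo P hPT)))
  have hD : ∀ P, D P ≤ LocRes.ordDiff (φ P) u v := fun P => min_le_left _ _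
  have hweil : IsWeil (omegaF hK φ hφ u v) := ⟨D, omegaF_mem_WD hK hg φ hφ hu hv D hD⟩
  have hne : omegaF hK φ hφ u v ≠ 0 := by
    intro h0
    obtain ⟨P⟩ := exists_place hK
    have := le_ordDiff_of_mem_WD hK hg φ hφ hu hv
      (Finsupp.single P (LocRes.ordDiff (φ P) u v + 1)) (by rw [h0]; exact Submodule.zero_mem _) P
    rw [Finsupp.single_eq_same] at this
    omega
  obtain ⟨C, hC⟩ := exists_isDivOf hK _ hweil hne
  have hCo : ∀ P, C P = LocRes.ordDiff (φ P) u v := by
    intro P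
    apply le_antisymm
    · exact le_ordDiff_of_mem_WD hK hg φ hφ hu hv C ((hC C).2 le_rfl) P
    · -- raise `D` at `P`
      let E : Divisor k K := D + Finsupp.single P (LocRes.ordDiff (φ P) u v - D P)
      have hE : ∀ Q, E Q ≤ LocRes.ordDiff (φ Q) u v := by
        intro Q
        show (D + Finsupp.single P (LocRes.ordDiff (φ P) u v - D P)) Q ≤ _
        rw [Finsupp.add_apply]
        by_cases hQ : Q = P
        · subst hQ
          rw [Finsupp.single_eq_same]
          omega
        · rw [Finsupp.single_eq_of_ne hQ, add_zero]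
          exact hD Q
      have h1 := (hC E).1 (omegaF_mem_WD hK hg φ hφ hu hv E hE) P
      have h2 : E P = LocRes.ordDiff (φ P) u v := by
        show (D + Finsupp.single P (LocRes.ordDiff (φ P) u v - D P)) P = _
        rw [Finsupp.add_apply, Finsupp.single_eq_same]
        omega
      omega
  exact ⟨hne, hweil, C, hCo, hC⟩

end Global

end Groth.Agent.H27.GenCan
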