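import Groth.Agent.H27.Tate.GenCanFr
import Groth.Agent.H27.Tate.GenCan2

/-!
# Spaces of differentials with bounded divisor as Riemann–Roch spaces (`dim Ω = 1` version)
-/

set_option autoImplicit false

namespace Groth.Agent.H27.GenCanFr

open FunFld WithZero HahnSeries Groth.Agent.H55 Groth.Agent.H27.Tate Function Groth.Agent.H27.GenCan

universe u v w

variable {k : Type u} {K : Type v} [Field k] [Field K] [Algebra k K]
  (hK : IsFunctionField k K) (hfr : Module.finrank K (Ω[K⁄k]) = 1)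
  {F : Place k K → Type w} [∀ P, Field (F P)] [∀ P, Algebra k (F P)]
  (φ : ∀ P, K →ₐ[k] LaurentSeries (F P)) (hφ : ∀ P, LocRes.IsExpansionAt P.1 (φ P))
  {v : K} (hv : KaehlerDifferential.D k K v ≠ 0)

include hK hfr hφ hv

theorem vDiff_mul_eq (P : Place k K) (y : K) :
    LocRes.vDiff (φ P) y v = P.1 y * exp (-(LocRes.ordDiff (φ P) 1 v)) := by
  have h1 := vDiff_eq (φ P) (hφ P) hfr one_ne_zero hv
  unfold LocRes.vDiff at h1 ⊢
  rw [map_one, one_mul] at h1
  rw [map_mul, (hφ P).1, h1]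

theorem vDiff_le_iff (P : Place k K) (y : K) (e : ℤ) :
    LocRes.vDiff (φ P) y v ≤ exp (-e) ↔ P.1 y ≤ exp (LocRes.ordDiff (φ P) 1 v - e) := by
  rw [vDiff_mul_eq hK hfr φ hφ hv]
  constructor
  · intro h
    have := mul_le_mul' h (le_refl (exp (LocRes.ordDiff (φ P) 1 v)))
    rw [mul_assoc, ← exp_add, neg_add_cancel, exp_zero, mul_one, ← exp_add] at this
    rwa [show -e + LocRes.ordDiff (φ P) 1 v = LocRes.ordDiff (φ P) 1 v - e by ring] at this
  · intro h
    have := mul_le_mul' h (le_refl (exp (-(LocRes.ordDiff (φ P) 1 v))))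
    rw [← exp_add] at this
    rwa [show LocRes.ordDiff (φ P) 1 v - e + -(LocRes.ordDiff (φ P) 1 v) = -e by ring] at this

theorem vDiff_eq_one_iff (P : Place k K) (y : K) :
    LocRes.vDiff (φ P) y v = 1 ↔ P.1 y = exp (LocRes.ordDiff (φ P) 1 v) := by
  rw [vDiff_mul_eq hK hfr φ hφ hv]
  constructor
  · intro h
    have : P.1 y * exp (-(LocRes.ordDiff (φ P) 1 v)) * exp (LocRes.ordDiff (φ P) 1 v) =
        1 * exp (LocRes.ordDiff (φ P) 1 v) := by rw [h]
    rwa [mul_assoc, ← exp_add, neg_add_cancel, exp_zero, mul_one, one_mul] at this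
  · intro h
    rw [h, ← exp_add, add_neg_cancel, exp_zero]

theorem setOf_vDiff_le (C D : Divisor k K) (hC : ∀ P, C P = LocRes.ordDiff (φ P) 1 v) :
    {y : K | ∀ P, LocRes.vDiff (φ P) y v ≤ exp (-(D P))} = (L (C - D) : Set K) := by
  ext y
  simp only [Set.mem_ofPred_eq, SetLike.mem_coe]
  refine forall_congr' fun P => ?_
  rw [vDiff_le_iff hK hfr φ hφ hv, Finsupp.sub_apply, hC]

omit hv in
/-- The regular differentials `y dx` form the Riemann–Roch space of a canonical divisor. -/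
theorem regular_eq_L [∀ P, FiniteDimensional k (F P)] {x : K}
    (hx : KaehlerDifferential.D k K x ≠ 0) :
    ∃ C : Divisor k K, {y : K | ∀ P, LocRes.vDiff (φ P) y x ≤ 1} = (L C : Set K) ∧
      ell C = genus k K := by
  obtain ⟨hne, -, C, hCo, hC⟩ := main hK hfr φ hφ one_ne_zero hx
  have hset := setOf_vDiff_le hK hfr φ hφ hx C 0 hCo
  simp only [Finsupp.coe_zero, Pi.zero_apply, neg_zero, WithZero.exp_zero, sub_zero] at hset
  exact ⟨C, hset, (ell_canonical hK ⟨_, hne, hC⟩).1⟩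

end Groth.Agent.H27.GenCanFr
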