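import Groth.Agent.S12610
import Groth.Agent.S12606
import Groth.Agent.H27.Tate.CanDS
import Groth.Agent.H55.FFOver2

/-!
# Global properties of the Weierstrass divisor: nonnegativity and degree
-/

set_option autoImplicit false

namespace Groth.Agent.H27.WDivGlobal

open FunFld WithZero Groth.Agent.H55 Groth.Agent.H27.WDiv Groth.Agent.H27.Generic
open Groth.Agent.H27.Sep Groth.Agent.H27.LocOrd

variable {k K : Type*} [Field k] [IsAlgClosed k] [Field K] [Algebra k K]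

/-- Normalization of a projective map at a place, with a local parameter. -/
theorem normalize (hK : IsFunctionField k K) {n : ℕ} (φ : Fin (n + 1) → K)
    (hφ : LinearIndependent k φ) (τ : K →ₐ[k] K) (s : K) (H : K →ₐ[k] PowerSeries K)
    (hH : LocRes.IsHasseFamily s H) (J : Fin n → ℕ) (hJ : IsOrders K (hcol τ H φ) J)
    (Φ : Place k K → (K →ₐ[k] LaurentSeries k))
    (hΦ : ∀ P : Place k K, LocRes.IsExpansionAt P.1 (Φ P)) (P : Place k K) :
    ∃ (t : K) (Ht : K →ₐ[k] PowerSeries K) (φ' : Fin (n + 1) → K) (y : K), y ≠ 0 ∧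
      P.1 t = exp (-1 : ℤ) ∧ LocRes.IsHasseFamily t Ht ∧ (∀ i, φ' i = y * φ i) ∧
      LinearIndependent k φ' ∧ (1 : K) ∈ Submodule.span k (Set.range φ') ∧
      (∀ i, P.1 (φ' i) ≤ 1) ∧ IsOrders K (hcol τ Ht φ') J ∧
      wDiv τ Ht Φ t φ' J = wDiv τ H Φ s φ J := by
  classical
  have hg := Groth.Agent.S11000.result k K hK
  have hfr := finrank_kaehler hK hg
  obtain ⟨t, ht⟩ := (hΦ P).2.2
  obtain ⟨Ht, hHt⟩ := exists_hasse hH (hasseD_one_ne_zero hH hfr (D_ne_zero_of_val hK P ht))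
  obtain ⟨j0, -, hj0⟩ := Finset.exists_max_image Finset.univ (fun i => P.1 (φ i))
    Finset.univ_nonempty
  have hφ0 : ∀ i, φ i ≠ 0 := fun i => hφ.ne_zero i
  obtain ⟨y, hy⟩ : ∃ y : K, y = (φ j0)⁻¹ := ⟨_, rfl⟩
  have hy0 : y ≠ 0 := by
    rw [hy]
    exact inv_ne_zero (hφ0 j0)
  obtain ⟨φ', hφ'⟩ : ∃ φ' : Fin (n + 1) → K, φ' = y • φ := ⟨_, rfl⟩
  have hφ'i : ∀ i, φ' i = y * φ i := fun i => by rw [hφ', Pi.smul_apply, smul_eq_mul]
  have hW := Groth.Agent.S12614.result k K hK φ hφ τ s H hH t Ht hHt J hJ 1 (by simp) y hy0 φ'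
    (fun i => by
      rw [hφ'i]
      congr 1
      simp [Matrix.one_apply]) Φ hΦ
  have hφ'li : LinearIndependent k φ' := by
    have : φ' = (LinearMap.mulLeft k y) ∘ φ := by
      ext i
      simp [hφ'i]
    rw [this]
    exact hφ.map' _ (LinearMap.ker_eq_bot.2 (mul_right_injective₀ hy0))
  have heff : (1 : K) ∈ Submodule.span k (Set.range φ') :=
    Submodule.subset_span ⟨j0, by rw [hφ'i, hy, inv_mul_cancel₀ (hφ0 j0)]⟩
  have hnorm : ∀ i, P.1 (φ' i) ≤ 1 := by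
    intro i
    rw [hφ'i, hy, map_mul, map_inv₀, inv_mul_le_iff₀ (zero_lt_iff.2
      ((Valuation.ne_zero_iff _).2 (hφ0 j0))), mul_one]
    exact hj0 i (Finset.mem_univ _)
  have hJt : IsOrders K (hcol τ Ht φ) J :=
    ((Groth.Agent.S12598.result k K hK φ hφ τ s H hH t Ht hHt).1 J).2 hJ
  have hJ' : IsOrders K (hcol τ Ht φ') J := by
    rw [hφ']
    exact ((Groth.Agent.S12597.result k K hK φ hφ τ t Ht hHt y hy0).1 J).2 hJt
  exact ⟨t, Ht, φ', y, hy0, ht, hHt, hφ'i, hφ'li, heff, hnorm, hJ', hW⟩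

omit [IsAlgClosed k] in
theorem val_det_le_one (P : Place k K) {N : ℕ} (M : Matrix (Fin N) (Fin N) K)
    (h : ∀ i j, P.1 (M i j) ≤ 1) : P.1 M.det ≤ 1 := by
  let M₀ : Matrix (Fin N) (Fin N) P.O :=
    fun i j => ⟨M i j, (Valuation.mem_valuationSubring_iff _ _).2 (h i j)⟩
  have e : M = P.O.subtype.mapMatrix M₀ := by
    ext i j
    rfl
  rw [e, ← RingHom.map_det]
  exact (Valuation.mem_valuationSubring_iff _ _).1 (Matrix.det M₀).2

theorem wDiv_nonneg (hK : IsFunctionField k K) {n : ℕ} (φ : Fin (n + 1) → K)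
    (hφ : LinearIndependent k φ) (τ : K →ₐ[k] K) (s : K) (H : K →ₐ[k] PowerSeries K)
    (hH : LocRes.IsHasseFamily s H) (J : Fin n → ℕ) (hJ : IsOrders K (hcol τ H φ) J)
    (Φ : Place k K → (K →ₐ[k] LaurentSeries k))
    (hΦ : ∀ P : Place k K, LocRes.IsExpansionAt P.1 (Φ P)) : 0 ≤ wDiv τ H Φ s φ J := by
  intro P
  rw [Finsupp.coe_zero, Pi.zero_apply]
  obtain ⟨t, Ht, φ', y, hy0, ht, hHt, hφ'i, hφ'li, heff, hnorm, hJ', hW⟩ :=
    normalize hK φ hφ τ s H hH J hJ Φ hΦ P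
  rw [← hW, wDiv_apply hK, mapDiv_apply_eq_zero hK φ' P heff hnorm,
    divDiff_apply_of_param Φ P (hΦ P) ht, mul_zero, mul_zero, add_zero, add_zero]
  have hdet0 : (wrMat τ Ht φ' J).det ≠ 0 := det_wrMat_ne_zero hK φ' hφ'li τ t Ht hHt J hJ'
  have hτ0 : ∀ i, (τ ∘ φ') i ≠ 0 := fun i => by
    rw [Function.comp_apply]
    exact (map_ne_zero_iff τ τ.injective).2 (hφ'li.ne_zero i)
  have key : P.1 (wrMat τ Ht φ' J).det ≤ exp (mapDiv k (τ ∘ φ') P) := by
    rw [Matrix.det_succ_column_zero]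
    refine Valuation.map_sum_le _ (fun i _ => ?_)
    rw [map_mul, map_mul, map_pow, Valuation.map_neg, map_one, one_pow, one_mul]
    have h1 : P.1 (wrMat τ Ht φ' J i 0) ≤ exp (mapDiv k (τ ∘ φ') P) :=
      mem_L_mapDiv hK (τ ∘ φ') hτ0 i P
    have h2 : P.1 ((wrMat τ Ht φ' J).submatrix i.succAbove Fin.succ).det ≤ 1 := by
      refine val_det_le_one P _ (fun r l => ?_)
      show P.1 (wrMat τ Ht φ' J (i.succAbove r) (Fin.succ l)) ≤ 1
      simp only [wrMat, Matrix.of_apply, Fin.cases_succ]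
      exact Groth.Agent.H27.Expn.hasseD_int hK P ht hHt (hnorm _) _
    calc P.1 (wrMat τ Ht φ' J i 0) * P.1 ((wrMat τ Ht φ' J).submatrix i.succAbove Fin.succ).det
        ≤ exp (mapDiv k (τ ∘ φ') P) * 1 := mul_le_mul' h1 h2
      _ = exp (mapDiv k (τ ∘ φ') P) := mul_one _
  have hne : P.1 (wrMat τ Ht φ' J).det ≠ 0 := (Valuation.ne_zero_iff _).2 hdet0
  have := (log_le_iff_le_exp hne).2 key
  unfold Place.ord
  omega

theorem deg_wDiv (hK : IsFunctionField k K) {n : ℕ} (φ : Fin (n + 1) → K)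
    (τ : K →ₐ[k] K) (s : K) (H : K →ₐ[k] PowerSeries K)
    (hH : LocRes.IsHasseFamily s H) (J : Fin n → ℕ)
    (Φ : Place k K → (K →ₐ[k] LaurentSeries k))
    (hΦ : ∀ P : Place k K, LocRes.IsExpansionAt P.1 (Φ P)) :
    (wDiv τ H Φ s φ J).deg =
      ((Module.finrank τ.fieldRange K : ℤ) + n) * (mapDiv k φ).deg +
        (2 * (genus k K : ℤ) - 2) * ∑ l, (J l : ℤ) := by
  have hds : KaehlerDifferential.D k K s ≠ 0 := D_ne_zero_of_hasse hH
  unfold wDiv
  rw [deg_add, deg_add, deg_add, deg_div hK, deg_mapDiv_comp hK, deg_zsmul, deg_zsmul,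
    Groth.Agent.H27.CanDS.deg_divDiff hK hds Φ hΦ]
  ring

end Groth.Agent.H27.WDivGlobal
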